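import Cfsg.Agent.Lib.OddBase.Chief
import Cfsg.Agent.Lib.Solvable.Primitive

/-!
Primitive permutation groups of odd order have a regular orbit on subsets.
-/

set_option autoImplicit false
set_option linter.style.haveILetI false
set_option linter.unusedSectionVars false
set_option maxHeartbeats 1000000

open scoped commutatorElement

namespace Cfsg.Agent.OddBase

open PrimSol

universe u v

/-- Few subsets are invariant under a permutation of odd order. -/
theorem card_invariant_subsets {Ω : Type v} [Fintype Ω] [DecidableEq Ω] (σ : Equiv.Perm Ω)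
    (hσ : Odd (orderOf σ)) :
    ∃ c, (Finset.univ.filter fun Y : Finset Ω => ∀ x, σ x ∈ Y ↔ x ∈ Y).card ≤ 2 ^ c ∧
      3 * c ≤ Fintype.card Ω + 2 * (Finset.univ.filter fun x => σ x = x).card := by
  classical
  let s := Equiv.Perm.SameCycle.setoid σ
  let π : Ω → Quotient s := Quotient.mk s
  refine ⟨Fintype.card (Quotient s), ?_, ?_⟩
  · refine le_trans (Finset.card_le_card_of_injOn (t := (Finset.univ : Finset (Finset (Quotient s))))
      (fun Y => Finset.univ.filter fun z => z.out ∈ Y) (fun Y _ => Finset.mem_univ _) ?_) ?_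
    · intro Y hY Z hZ h
      have key : ∀ W : Finset Ω, (∀ x, σ x ∈ W ↔ x ∈ W) → ∀ x, x ∈ W ↔ (π x).out ∈ W := by
        intro W hW x
        have hsc : σ.SameCycle (π x).out x := Quotient.mk_out x
        obtain ⟨i, hi⟩ := hsc
        have hmem : ∀ (i : ℤ) (y : Ω), (σ ^ i) y ∈ W ↔ y ∈ W := by
          intro i
          induction i using Int.induction_on with
          | zero => simp
          | succ i ih =>
            intro y
            rw [zpow_add_one, Equiv.Perm.mul_apply, ih, hW]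
          | pred i ih =>
            intro y
            rw [zpow_sub_one, Equiv.Perm.mul_apply, ih, ← hW (σ⁻¹ y),
              show σ (σ⁻¹ y) = y from σ.apply_symm_apply y]
        conv_lhs => rw [← hi]
        exact hmem i _
      ext x
      rw [key Y (Finset.mem_filter.1 hY).2, key Z (Finset.mem_filter.1 hZ).2]
      have := Finset.ext_iff.1 h (π x)
      simpa using this
    · rw [Finset.card_univ, Fintype.card_finset]
  · have h1 : ∀ z : Quotient s, 3 ≤ (Finset.univ.filter fun x => π x = z).card +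
        2 * ((Finset.univ.filter fun x => σ x = x).filter fun x => π x = z).card := by
      intro z
      induction z using Quotient.inductionOn with
      | h x =>
      by_cases hx : σ x = x
      · have a1 : 0 < (Finset.univ.filter fun y => π y = π x).card :=
          Finset.card_pos.2 ⟨x, by simp⟩
        have a2 : 0 < ((Finset.univ.filter fun y => σ y = y).filter fun y => π y = π x).card :=
          Finset.card_pos.2 ⟨x, by simp [hx]⟩
        rw [show (Quotient.mk s x : Quotient s) = π x from rfl]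
        omega
      · refine le_trans ?_ (Nat.le_add_right _ _)
        have e1 : π (σ x) = π x := Quotient.sound (Equiv.Perm.SameCycle.symm ⟨1, by simp⟩)
        have e2 : π (σ (σ x)) = π x :=
          Quotient.sound (Equiv.Perm.SameCycle.symm ⟨2, by rw [zpow_two]; rfl⟩)
        have n2 : σ (σ x) ≠ x := fun e => hx (by
          obtain ⟨i, hi⟩ := hσ
          have h2 : ∀ j : ℕ, (σ ^ (2 * j)) x = x := fun j => by
            induction j with
            | zero => simp
            | succ j ih =>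
              rw [Nat.mul_succ, pow_add, Equiv.Perm.mul_apply, pow_two, Equiv.Perm.mul_apply, e, ih]
          have h3 : (σ ^ (2 * i + 1)) x = x := by rw [← hi, pow_orderOf_eq_one]; rfl
          rw [pow_succ', Equiv.Perm.mul_apply, h2] at h3
          exact h3)
        have n3 : σ (σ x) ≠ σ x := fun e => hx (σ.injective e)
        refine (Finset.two_lt_card.2 ⟨x, ?_, σ x, ?_, σ (σ x), ?_, Ne.symm hx, Ne.symm n2, Ne.symm n3⟩)
        · simp [π]
        · simp only [Finset.mem_filter, Finset.mem_univ, true_and]; exact e1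
        · simp only [Finset.mem_filter, Finset.mem_univ, true_and]; exact e2
    calc 3 * Fintype.card (Quotient s) = ∑ _z : Quotient s, 3 := by
          rw [Finset.sum_const, Finset.card_univ, smul_eq_mul, mul_comm]
      _ ≤ ∑ z : Quotient s, ((Finset.univ.filter fun x => π x = z).card +
          2 * ((Finset.univ.filter fun x => σ x = x).filter fun x => π x = z).card) :=
          Finset.sum_le_sum fun z _ => h1 z
      _ = _ := by
          rw [Finset.sum_add_distrib, ← Finset.mul_sum,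
            ← Finset.card_eq_sum_card_fiberwise (fun x _ => Finset.mem_univ (π x)),
            ← Finset.card_eq_sum_card_fiberwise (fun x _ => Finset.mem_univ (π x)), Finset.card_univ]

theorem pow_six_le {n : ℕ} (h : 3 ≤ n) : n ^ 6 ≤ 16 * 2 ^ (2 * n) := by
  induction n, h using Nat.le_induction with
  | base => norm_num
  | succ n hn ih =>
    rcases Nat.lt_or_ge n 4 with h4 | h4
    · obtain rfl : n = 3 := by omega
      norm_num
    · have h1 : 4 ^ 6 * (n + 1) ^ 6 ≤ 4 ^ 6 * (4 * n ^ 6) := by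
        calc 4 ^ 6 * (n + 1) ^ 6 = (4 * (n + 1)) ^ 6 := by ring
          _ ≤ (5 * n) ^ 6 := Nat.pow_le_pow_left (by omega) 6
          _ = 5 ^ 6 * n ^ 6 := by ring
          _ ≤ 4 ^ 6 * 4 * n ^ 6 := Nat.mul_le_mul_right _ (by norm_num)
          _ = 4 ^ 6 * (4 * n ^ 6) := by ring
      have h2 := Nat.le_of_mul_le_mul_left h1 (by norm_num)
      rw [show 2 * (n + 1) = 2 * n + 2 by ring, pow_add]
      omega

theorem cube_lt_pow {m : ℕ} (h : 22 ≤ m) : 729 * m ^ 3 < 256 * 2 ^ m := by
  induction m, h using Nat.le_induction with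
  | base => norm_num
  | succ m hm ih =>
    have h1 : 4 ^ 3 * (m + 1) ^ 3 ≤ 4 ^ 3 * (2 * m ^ 3) := by
      calc 4 ^ 3 * (m + 1) ^ 3 = (4 * (m + 1)) ^ 3 := by ring
        _ ≤ (5 * m) ^ 3 := Nat.pow_le_pow_left (by omega) 3
        _ = 5 ^ 3 * m ^ 3 := by ring
        _ ≤ 4 ^ 3 * 2 * m ^ 3 := Nat.mul_le_mul_right _ (by norm_num)
        _ = 4 ^ 3 * (2 * m ^ 3) := by ring
    have h2 := Nat.le_of_mul_le_mul_left h1 (by norm_num)
    rw [pow_succ 2 m]
    omega

/-- The numerical content of the count. -/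
theorem subset_count {n u q k c : ℕ} (hq : q.Prime) (hq2 : q ≠ 2) (hn : n = q ^ k) (hk : 0 < k)
    (hc : 3 * q * c ≤ q * n + 2 * n) (hu1 : k = 1 → 2 * u ≤ n - 1) (hu : 2 * u ≤ n ^ 2)
    (h9 : q = 3 → k ≠ 2) (h25 : q = 5 → k = 2 → u ≤ 15) (h27 : q = 3 → k = 3 → u ≤ 39) :
    n * u * 2 ^ c < 2 * 2 ^ n := by
  have hq3 : 3 ≤ q := by have := hq.two_le; omega
  by_cases hk1 : k = 1
  · subst hk1
    rw [pow_one] at hn
    subst hn
    have e : n * (3 * c) ≤ n * (n + 2) := by ring_nf at hc ⊢; omega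
    have hc' : 3 * c ≤ n + 2 := Nat.le_of_mul_le_mul_left e (by omega)
    have h1 : (n * (2 * u)) ^ 3 < n ^ 6 := by
      calc (n * (2 * u)) ^ 3 ≤ (n * (n - 1)) ^ 3 :=
            Nat.pow_le_pow_left (Nat.mul_le_mul_left _ (hu1 rfl)) 3
        _ < (n * n) ^ 3 := Nat.pow_lt_pow_left (Nat.mul_lt_mul_of_pos_left (by omega) (by omega)) (by norm_num)
        _ = n ^ 6 := by ring
    have h2 : (2 * (n * u * 2 ^ c)) ^ 3 < (4 * 2 ^ n) ^ 3 := by
      calc (2 * (n * u * 2 ^ c)) ^ 3 = (n * (2 * u)) ^ 3 * 2 ^ (3 * c) := by ring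
        _ < n ^ 6 * 2 ^ (3 * c) := Nat.mul_lt_mul_of_pos_right h1 (by positivity)
        _ ≤ 16 * 2 ^ (2 * n) * 2 ^ (n + 2) :=
            Nat.mul_le_mul (pow_six_le hq3) (Nat.pow_le_pow_right (by norm_num) hc')
        _ = (4 * 2 ^ n) ^ 3 := by ring
    have := (Nat.pow_lt_pow_iff_left (by norm_num)).1 h2
    omega
  have hc9 : 9 * c ≤ 5 * n := by
    have : q * (9 * c) ≤ q * (5 * n) := by nlinarith
    exact Nat.le_of_mul_le_mul_left this (by omega)
  by_cases h49 : 49 ≤ n
  · obtain ⟨m, hm⟩ : ∃ m, n = c + m := ⟨n - c, by omega⟩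
    have hm22 : 22 ≤ m := by omega
    have h1 : 64 * n ^ 3 ≤ 729 * m ^ 3 := by
      calc 64 * n ^ 3 = (4 * n) ^ 3 := by ring
        _ ≤ (9 * m) ^ 3 := Nat.pow_le_pow_left (by omega) 3
        _ = 729 * m ^ 3 := by ring
    have h2 := cube_lt_pow hm22
    have h3 : n ^ 3 < 4 * 2 ^ m := by omega
    have h4 : 2 * (n * u * 2 ^ c) < 4 * 2 ^ n := by
      calc 2 * (n * u * 2 ^ c) = n * (2 * u) * 2 ^ c := by ring
        _ ≤ n * n ^ 2 * 2 ^ c := Nat.mul_le_mul_right _ (Nat.mul_le_mul_left _ hu)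
        _ = n ^ 3 * 2 ^ c := by ring
        _ < 4 * 2 ^ m * 2 ^ c := Nat.mul_lt_mul_of_pos_right h3 (by positivity)
        _ = 4 * 2 ^ n := by rw [hm]; ring
    omega
  have hq7 : q ≤ 7 := by
    by_contra hq7
    have : q ^ 2 ≤ n := hn ▸ Nat.pow_le_pow_right (by omega) (by omega)
    nlinarith
  have hk3 : k ≤ 3 := by
    by_contra hk3
    have : 3 ^ 4 ≤ n := hn ▸ le_trans (Nat.pow_le_pow_left hq3 4) (Nat.pow_le_pow_right (by omega) (by omega))
    omega
  interval_cases q
  · interval_cases k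
    · omega
    · exact absurd rfl (h9 rfl)
    · have : c ≤ 15 := by omega
      subst hn
      calc 3 ^ 3 * u * 2 ^ c ≤ 3 ^ 3 * 39 * 2 ^ 15 :=
            Nat.mul_le_mul (Nat.mul_le_mul_left _ (h27 rfl rfl)) (Nat.pow_le_pow_right (by norm_num) this)
        _ < _ := by norm_num
  · exact absurd hq (by norm_num)
  · interval_cases k
    · omega
    · have : c ≤ 13 := by omega
      subst hn
      calc 5 ^ 2 * u * 2 ^ c ≤ 5 ^ 2 * 15 * 2 ^ 13 :=
            Nat.mul_le_mul (Nat.mul_le_mul_left _ (h25 rfl rfl)) (Nat.pow_le_pow_right (by norm_num) this)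
        _ < _ := by norm_num
    · omega
  · exact absurd hq (by norm_num)
  · interval_cases k <;> omega

/-- Regular orbit on the power set. -/
theorem exists_regular_subset {G : Type u} [Group G] [Finite G] {Ω : Type v} [Fintype Ω] [DecidableEq Ω]
    [MulAction G Ω] [FaithfulSMul G Ω] (hprim : MulAction.IsPreprimitive G Ω)
    (hodd : Odd (Nat.card G)) (hsol : Group.IsSolvable G) {T : ℕ} (hW : OrderBound.{u} T)
    (hT : Fintype.card Ω < T) :
    ∃ Y : Finset Ω, ∀ g : G, (∀ x, g • x ∈ Y ↔ x ∈ Y) → g = 1 := by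
  classical
  rcases subsingleton_or_nontrivial G with hG | hG
  · exact ⟨∅, fun g _ => Subsingleton.elim _ _⟩
  haveI : Fintype G := Fintype.ofFinite G
  haveI := hprim
  obtain ⟨x₀⟩ : Nonempty Ω := by
    by_contra hne
    rw [not_nonempty_iff] at hne
    obtain ⟨a, b, hab⟩ := exists_pair_ne G
    exact hab (FaithfulSMul.eq_of_smul_eq_smul fun x : Ω => isEmptyElim x)
  -- minimal normal subgroup
  obtain ⟨M, ⟨hMn, hMne⟩, hmin⟩ := Set.Finite.exists_minimal (s := {M : Subgroup G | M.Normal ∧ M ≠ ⊥})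
    (Set.toFinite _) ⟨⊤, inferInstance, top_ne_bot⟩
  haveI := hMn
  have hmin' : ∀ K : Subgroup G, K.Normal → K ≤ M → K = ⊥ ∨ K = M := by
    intro K hK hle
    by_cases h0 : K = ⊥
    · exact Or.inl h0
    · exact Or.inr (le_antisymm hle (hmin ⟨hK, h0⟩ hle))
  have hcomm : ∀ a ∈ M, ∀ b ∈ M, a * b = b * a := by
    have hlt : ⁅M, M⁆ < M := Group.IsSolvable.commutator_lt_of_ne_bot hMne
    rcases hmin' _ inferInstance hlt.le with h0 | h0
    · intro a ha b hb
      rw [← commutatorElement_eq_one_iff_mul_comm, ← Subgroup.mem_bot, ← h0]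
      exact Subgroup.commutator_mem_commutator ha hb
    · exact absurd h0 hlt.ne
  haveI : IsMulCommutative M := ⟨⟨fun a b => Subtype.ext (hcomm a a.2 b b.2)⟩⟩
  have hMcard : 1 < Nat.card M := M.one_lt_card_iff_ne_bot.2 hMne
  obtain ⟨q, hq, hqd⟩ := Nat.exists_prime_and_dvd (ne_of_gt hMcard)
  haveI := Fact.mk hq
  have hexp : ∀ m ∈ M, m ^ q = 1 := by
    let K : Subgroup G :=
      { carrier := {m | m ∈ M ∧ m ^ q = 1}
        one_mem' := ⟨one_mem _, one_pow _⟩
        mul_mem' := fun {a b} ha hb => ⟨mul_mem ha.1 hb.1, by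
          have : Commute a b := hcomm a ha.1 b hb.1
          rw [this.mul_pow, ha.2, hb.2, one_mul]⟩
        inv_mem' := fun {a} ha => ⟨inv_mem ha.1, by rw [inv_pow, ha.2, inv_one]⟩ }
    have hK : K.Normal := ⟨fun m hm g => ⟨hMn.conj_mem m hm.1 g, by rw [conj_pow, hm.2]; group⟩⟩
    rcases hmin' K hK (fun m hm => hm.1) with h0 | h0
    · obtain ⟨m, hm⟩ := exists_prime_orderOf_dvd_card' q hqd
      have h1 : (m : G) ∈ K := ⟨m.2, by
        rw [← hm, ← SubmonoidClass.coe_pow, pow_orderOf_eq_one]; rfl⟩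
      rw [h0, Subgroup.mem_bot] at h1
      rw [show m = 1 from Subtype.ext h1, orderOf_one] at hm
      exact absurd hm.symm hq.one_lt.ne'
    · intro m hm
      rw [← h0] at hm
      exact hm.2
  have hstab := fun x : Ω => SolvPrim.stabilizer_coatom hprim (G := G) x
  have hinf : ∀ x : Ω, M ⊓ MulAction.stabilizer G x = ⊥ := fun x =>
    SolvPrim.inf_eq_bot_of_abelian (hstab x).1 (hstab x).2 hMne
  have hbij : ∀ x : Ω, Function.Bijective fun m : M => (m : G) • x := fun x => by
    refine ⟨fun a b hab => ?_, fun y => ?_⟩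
    · have hm1 : (b : G)⁻¹ * a ∈ M := mul_mem (M.inv_mem b.2) a.2
      have hm2 : (b : G)⁻¹ * a ∈ MulAction.stabilizer G x := by
        rw [MulAction.mem_stabilizer_iff, mul_smul, inv_smul_eq_iff]; exact hab
      have h1 : (b : G)⁻¹ * a ∈ M ⊓ MulAction.stabilizer G x := ⟨hm1, hm2⟩
      rw [hinf x, Subgroup.mem_bot, inv_mul_eq_one] at h1
      exact Subtype.ext h1.symm
    · obtain ⟨g, rfl⟩ := MulAction.exists_smul_eq G x y
      obtain ⟨m, hm, w, hw, rfl⟩ := SolvPrim.exists_mul (hstab x).1 (hstab x).2 hMn hMne g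
      exact ⟨⟨m, hm⟩, by show m • x = (m * w) • x; rw [mul_smul, MulAction.mem_stabilizer_iff.1 hw]⟩
  have hMΩ : Nat.card M = Fintype.card Ω :=
    (Nat.card_congr (Equiv.ofBijective _ (hbij x₀))).trans Nat.card_eq_fintype_card
  set U := MulAction.stabilizer G x₀ with hU
  let φ : U →* MulAut M := MulAut.conjNormal.comp U.subtype
  letI : CommGroup M := { (inferInstance : Group M) with mul_comm := fun a b => Subtype.ext (hcomm a a.2 b b.2) }
  obtain ⟨k, e, σ, hcard, hσ⟩ := exists_linear q (fun x : M => Subtype.ext (hexp x x.2)) φ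
  have hk : 0 < k := by
    rcases Nat.eq_zero_or_pos k with h0 | h0
    · rw [hcard, h0, pow_zero] at hMcard; omega
    · exact h0
  have hodd' : ∀ H : Subgroup G, Odd (Nat.card H) := fun H => Odd.of_dvd_nat hodd H.card_subgroup_dvd_card
  have hq2 : q ≠ 2 := fun h => by
    have h1 : Odd q := Odd.of_dvd_nat (hodd' M) hqd
    rw [h] at h1
    exact absurd h1 (by decide)
  have hσinj : Function.Injective σ := by
    refine (injective_iff_map_eq_one σ).2 fun w hw => Subtype.ext ?_
    have hc : (w : G) ∈ Subgroup.centralizer (M : Set G) ⊓ U := by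
      refine ⟨Subgroup.mem_centralizer_iff.2 fun m hm => ?_, w.2⟩
      have h1 := hσ w ⟨m, hm⟩
      rw [hw, Module.End.one_apply] at h1
      have h2 : m = (w : G) * m * (w : G)⁻¹ := congrArg Subtype.val (Additive.ofMul.injective (e.injective h1))
      conv_lhs => rw [h2]
      group
    rwa [SolvPrim.centralizer_inf_eq_bot (hstab x₀).1 (hstab x₀).2 hMne, Subgroup.mem_bot] at hc
  have hirr : Irred σ := by
    intro W hW'
    let K : Subgroup G :=
      { carrier := {m | ∃ hm : m ∈ M, e (Additive.ofMul ⟨m, hm⟩) ∈ W}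
        one_mem' := ⟨one_mem _, by
          have : (Additive.ofMul (⟨1, one_mem M⟩ : M)) = 0 := rfl
          rw [this, map_zero]; exact W.zero_mem⟩
        mul_mem' := fun {a b} ⟨ha, ha'⟩ ⟨hb, hb'⟩ => ⟨mul_mem ha hb, by
          have : (Additive.ofMul (⟨a * b, mul_mem ha hb⟩ : M)) = Additive.ofMul ⟨a, ha⟩ + Additive.ofMul ⟨b, hb⟩ := rfl
          rw [this, map_add]; exact W.add_mem ha' hb'⟩
        inv_mem' := fun {a} ⟨ha, ha'⟩ => ⟨inv_mem ha, by
          have : (Additive.ofMul (⟨a⁻¹, inv_mem ha⟩ : M)) = - Additive.ofMul ⟨a, ha⟩ := rfl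
          rw [this, map_neg]; exact W.neg_mem ha'⟩ }
    have hK : K.Normal := ⟨fun m hm g => by
      obtain ⟨hm', hmW⟩ := hm
      obtain ⟨a, ha, w, hw, rfl⟩ := SolvPrim.exists_mul (hstab x₀).1 (hstab x₀).2 hMn hMne g
      have h1 := hW' ⟨w, hw⟩ _ hmW
      rw [hσ] at h1
      have h2 : a * w * m * (a * w)⁻¹ = w * m * w⁻¹ := by
        have h3 := hcomm a ha (w * m * w⁻¹) (hMn.conj_mem m hm' w)
        calc a * w * m * (a * w)⁻¹ = a * (w * m * w⁻¹) * a⁻¹ := by group
          _ = _ := by rw [h3]; group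
      rw [h2]
      exact ⟨hMn.conj_mem m hm' w, h1⟩⟩
    rcases hmin' K hK (fun m hm => hm.1) with h0 | h0
    · left
      refine (Submodule.eq_bot_iff W).2 fun z hz => ?_
      have h1 : ((Additive.toMul (e.symm z) : M) : G) ∈ K := ⟨(Additive.toMul (e.symm z) : M).2, by
        show e (e.symm z) ∈ W
        rw [AddEquiv.apply_symm_apply]; exact hz⟩
      rw [h0, Subgroup.mem_bot] at h1
      have h2 : e.symm z = 0 := congrArg Additive.ofMul (Subtype.ext h1 : (Additive.toMul (e.symm z) : M) = 1)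
      simpa using congrArg e h2
    · right
      refine Submodule.eq_top_iff'.2 fun z => ?_
      have h1 : ((Additive.toMul (e.symm z) : M) : G) ∈ K := by
        rw [h0]; exact (Additive.toMul (e.symm z) : M).2
      obtain ⟨_, h2⟩ := h1
      have h3 : e (e.symm z) ∈ W := h2
      rwa [AddEquiv.apply_symm_apply] at h3
  haveI : Nontrivial (Fin k → ZMod q) :=
    haveI : Nonempty (Fin k) := ⟨⟨0, hk⟩⟩
    inferInstance
  have hVc : Nat.card (Fin k → ZMod q) = q ^ k := by simp
  have hu : 2 * Nat.card U ≤ (q ^ k) ^ 2 := hVc ▸ hW.apply σ (hodd' U) hσinj hirr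
    (hVc ▸ (hcard ▸ hMΩ ▸ hT))
  haveI : Group.IsSolvable G := hsol
  have hsm := small_bound σ hσinj hirr (hodd' U) inferInstance
  have hfr : Module.finrank (ZMod q) (Fin k → ZMod q) = k := Module.finrank_fin_fun _
  rw [hfr] at hsm
  have hu1 : k = 1 → 2 * Nat.card U ≤ q ^ k - 1 := by
    rintro rfl
    have h1 := card_dvd σ hσinj hfr
    simp only [Fin.prod_univ_one, Fin.val_zero, pow_zero, pow_one] at h1 ⊢
    obtain ⟨i, hi⟩ := h1
    have hq1 := hq.two_le
    obtain ⟨j, hj⟩ := hq.odd_of_ne_two hq2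
    rcases Nat.lt_or_ge i 2 with h | h
    · exfalso
      interval_cases i
      · omega
      · have := hodd' U
        rw [Nat.mul_one] at hi
        rw [← hi, hj, Nat.add_sub_cancel] at this
        exact (Nat.not_odd_iff_even.2 (even_two_mul j)) this
    · rw [hi, mul_comm]
      exact Nat.mul_le_mul_left _ h
  have hGc : Nat.card G = q ^ k * Nat.card U := by
    rw [← hcard, (SolvPrim.complement_of_abelian (hstab x₀).1 (hstab x₀).2 hMne).card_mul_card]
  -- fixed points
  have hfix : ∀ g : G, g ≠ 1 → q * (Finset.univ.filter fun x : Ω => g • x = x).card ≤ q ^ k := by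
    intro g hg
    rcases (Finset.univ.filter fun x : Ω => g • x = x).eq_empty_or_nonempty with h0 | ⟨x, hx⟩
    · rw [h0]; simp
    have hgx : g • x = x := (Finset.mem_filter.1 hx).2
    have hiff : ∀ m ∈ M, g • m • x = m • x ↔ g * m * g⁻¹ = m := by
      intro m hm
      constructor
      · intro h
        refine congrArg Subtype.val ((hbij x).1 (a₁ := ⟨_, hMn.conj_mem m hm g⟩) (a₂ := ⟨m, hm⟩) ?_)
        show (g * m * g⁻¹) • x = m • x
        rw [mul_smul, inv_smul_eq_iff.2 hgx.symm, mul_smul]; exact h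
      · intro h
        conv_rhs => rw [← h]
        rw [mul_smul, inv_smul_eq_iff.2 hgx.symm, mul_smul]
    let C : Subgroup G := M ⊓ Subgroup.centralizer {g}
    have hC : (Finset.univ.filter fun y : Ω => g • y = y).card ≤ Nat.card C := by
      rw [← Nat.card_eq_finsetCard]
      refine Nat.card_le_card_of_injective (fun y => ⟨((Equiv.ofBijective _ (hbij x)).symm y.1 : M), ?_⟩)
        fun a b hab => ?_
      · set m := (Equiv.ofBijective _ (hbij x)).symm y.1 with hm
        have hmx : (m : G) • x = y.1 := (Equiv.ofBijective _ (hbij x)).apply_symm_apply y.1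
        refine ⟨m.2, Subgroup.mem_centralizer_singleton_iff.2 ?_⟩
        have h1 := (hiff m m.2).1 (hmx.symm ▸ (Finset.mem_filter.1 y.2).2)
        conv_lhs => rw [← h1]
        group
      · have h1 := congrArg (fun c : C => (c : G) • x) hab
        have ha : (((Equiv.ofBijective _ (hbij x)).symm a.1 : M) : G) • x = a.1 :=
          (Equiv.ofBijective _ (hbij x)).apply_symm_apply a.1
        have hb : (((Equiv.ofBijective _ (hbij x)).symm b.1 : M) : G) • x = b.1 :=
          (Equiv.ofBijective _ (hbij x)).apply_symm_apply b.1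
        exact Subtype.ext (ha.symm.trans (h1.trans hb))
    have hne : C ≠ M := by
      intro h
      have hgM : g ∈ Subgroup.centralizer (M : Set G) := Subgroup.mem_centralizer_iff.2 fun m hm =>
        Subgroup.mem_centralizer_singleton_iff.1 ((inf_eq_left.1 h) hm)
      have : g ∈ Subgroup.centralizer (M : Set G) ⊓ MulAction.stabilizer G x := ⟨hgM, hgx⟩
      rw [SolvPrim.centralizer_inf_eq_bot (hstab x).1 (hstab x).2 hMne, Subgroup.mem_bot] at this
      exact hg this
    obtain ⟨j, hj, hjc⟩ := (Nat.dvd_prime_pow hq).1 (hcard ▸ Subgroup.card_dvd_of_le (inf_le_left : C ≤ M))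
    have hjk : j < k := by
      refine lt_of_le_of_ne hj fun h => hne (Subgroup.eq_of_le_of_card_ge inf_le_left ?_)
      rw [hcard, hjc, h]
    calc q * _ ≤ q * Nat.card C := Nat.mul_le_mul_left _ hC
      _ = q ^ (j + 1) := by rw [hjc, pow_succ']
      _ ≤ q ^ k := Nat.pow_le_pow_right hq.pos hjk
  -- counting
  let S : G → Finset (Finset Ω) := fun g => Finset.univ.filter fun Y => ∀ x, g • x ∈ Y ↔ x ∈ Y
  let B : Finset (Finset Ω) := Finset.univ.filter fun Y => ∃ g : G, g ≠ 1 ∧ ∀ x, g • x ∈ Y ↔ x ∈ Y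
  have hn : Fintype.card Ω = q ^ k := hMΩ.symm.trans hcard
  let c₀ := (q * q ^ k + 2 * q ^ k) / (3 * q)
  have hS : ∀ g : G, g ≠ 1 → (S g).card ≤ 2 ^ c₀ := by
    intro g hg
    obtain ⟨c, hc1, hc2⟩ := card_invariant_subsets (MulAction.toPerm g : Equiv.Perm Ω)
      (Odd.of_dvd_nat hodd ((orderOf_map_dvd (MulAction.toPermHom G Ω) g).trans (orderOf_dvd_natCard g)))
    refine hc1.trans (Nat.pow_le_pow_right (by norm_num) ((Nat.le_div_iff_mul_le (by have := hq.pos; omega)).2 ?_))
    have hf := hfix g hg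
    simp only [MulAction.toPerm_apply] at hc2
    rw [hn] at hc2
    nlinarith
  have hB : 2 * B.card ≤ Nat.card G * 2 ^ c₀ := by
    have htwo : ∀ Y ∈ B, 2 ≤ ((Finset.univ.erase (1 : G)).filter fun g => Y ∈ S g).card := by
      intro Y hY
      obtain ⟨g, hg, hgY⟩ := (Finset.mem_filter.1 hY).2
      refine Finset.one_lt_card.2 ⟨g, ?_, g⁻¹, ?_, ?_⟩
      · simp [S, hg, hgY]
      · have hgY' : ∀ x, g⁻¹ • x ∈ Y ↔ x ∈ Y := fun x => by
          conv_rhs => rw [← smul_inv_smul g x, hgY]
        simp [S, hg, hgY']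
      · intro e
        refine hg ?_
        obtain ⟨i, hi⟩ := hodd
        have h1 := pow_card_eq_one' (x := g)
        have h2 : g ^ 2 = 1 := by rw [pow_two]; nth_rewrite 2 [e]; rw [mul_inv_cancel]
        rwa [hi, pow_succ, pow_mul, h2, one_pow, one_mul] at h1
    calc 2 * B.card = ∑ _Y ∈ B, 2 := by rw [Finset.sum_const, smul_eq_mul, mul_comm]
      _ ≤ ∑ Y ∈ B, ((Finset.univ.erase (1 : G)).filter fun g => Y ∈ S g).card := Finset.sum_le_sum htwo
      _ = ∑ Y ∈ B, ∑ g ∈ Finset.univ.erase (1 : G), if Y ∈ S g then 1 else 0 :=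
          Finset.sum_congr rfl fun Y _ => Finset.card_filter _ _
      _ = ∑ g ∈ Finset.univ.erase (1 : G), ∑ Y ∈ B, if Y ∈ S g then 1 else 0 := Finset.sum_comm
      _ ≤ ∑ g ∈ Finset.univ.erase (1 : G), 2 ^ c₀ := by
          refine Finset.sum_le_sum fun g hg => ?_
          rw [← Finset.card_filter]
          exact (Finset.card_le_card fun Y hY => (Finset.mem_filter.1 hY).2).trans
            (hS g (Finset.ne_of_mem_erase hg))
      _ ≤ Nat.card G * 2 ^ c₀ := by
          rw [Finset.sum_const, smul_eq_mul, Nat.card_eq_fintype_card]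
          exact Nat.mul_le_mul_right _ (Finset.card_le_univ _)
  have hlt : q ^ k * Nat.card U * 2 ^ c₀ < 2 * 2 ^ (q ^ k) :=
    subset_count hq hq2 rfl hk (Nat.mul_div_le _ _) hu1 hu (fun h1 h2 => hsm.1 h1 h2)
      (fun h1 h2 => hsm.2.1 h1 h2) (fun h1 h2 => hsm.2.2.2 h1 (Or.inl h2))
  obtain ⟨Y, -, hY⟩ := Finset.exists_mem_notMem_of_card_lt_card
    (s := B) (t := (Finset.univ : Finset (Finset Ω))) (by
      rw [Finset.card_univ, Fintype.card_finset, hn]
      rw [hGc] at hB
      omega)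
  refine ⟨Y, fun g hg => ?_⟩
  by_contra hne
  exact hY (Finset.mem_filter.2 ⟨Finset.mem_univ _, g, hne, hg⟩)

end Cfsg.Agent.OddBase
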