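import Cfsg.Agent.Lib.OddBase.Prim
import Cfsg.Agent.Lib.OddBase.Perm
import Cfsg.Agent.Lib.OddChar.OddTheorem

/-!
Two vectors with trivial common stabiliser for groups of odd order.
-/

set_option autoImplicit false
set_option linter.style.haveILetI false
set_option linter.unusedSectionVars false
set_option maxHeartbeats 1000000

open scoped Pointwise

namespace Cfsg.Agent.OddBase

open PrimSol

universe u v

/-- All irreducible groups of odd order below a given space size have two regular orbits on pairs. -/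
def PairsBound (n : ℕ) : Prop :=
  ∀ (q : ℕ) [Fact q.Prime] (k : ℕ) (G : Type u) [Group G] [Finite G]
    (ρ : G →* Module.End (ZMod q) (Fin k → ZMod q)),
    Odd (Nat.card G) → Function.Injective ρ → Irred ρ → 0 < k → q ^ k < n → TwoPairs ρ

section

variable {q : ℕ} [Fact q.Prime] {V : Type v} [AddCommGroup V] [Module (ZMod q) V] [Finite V]
variable {G : Type u} [Group G] [Finite G]

theorem two_mul_card_le (ρ : G →* Module.End (ZMod q) V) (hρ : Function.Injective ρ) (h : TwoPairs ρ) :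
    2 * Nat.card G ≤ Nat.card V ^ 2 := by
  obtain ⟨a, b, c, d, h1, h2, h3⟩ := h
  have key : ∀ x y : V, (∀ g, ρ g x = x → ρ g y = y → ρ g = 1) →
      ∀ g k, ρ g x = ρ k x → ρ g y = ρ k y → g = k := by
    intro x y hxy g k e1 e2
    have h := hxy (g⁻¹ * k) (by rw [map_mul, Module.End.mul_apply, ← e1, inv_apply_cancel])
      (by rw [map_mul, Module.End.mul_apply, ← e2, inv_apply_cancel])
    rw [← map_one ρ] at h
    exact inv_mul_eq_one.1 (hρ h)
  have cross : ∀ g k, ¬ (ρ g a = ρ k c ∧ ρ g b = ρ k d) := fun g k ⟨e1, e2⟩ =>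
    h3 (k⁻¹ * g) ⟨by rw [map_mul, Module.End.mul_apply, e1, inv_apply_cancel],
      by rw [map_mul, Module.End.mul_apply, e2, inv_apply_cancel]⟩
  let f : G ⊕ G → V × V := Sum.elim (fun g => (ρ g a, ρ g b)) (fun g => (ρ g c, ρ g d))
  have hf : Function.Injective f := by
    rintro (g | g) (k | k) hgk
    · rw [key a b h1 g k (congrArg Prod.fst hgk) (congrArg Prod.snd hgk)]
    · exact absurd ⟨congrArg Prod.fst hgk, congrArg Prod.snd hgk⟩ (cross g k)
    · exact absurd ⟨(congrArg Prod.fst hgk).symm, (congrArg Prod.snd hgk).symm⟩ (cross k g)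
    · rw [key c d h2 g k (congrArg Prod.fst hgk) (congrArg Prod.snd hgk)]
  have := Nat.card_le_card_of_injective f hf
  rw [Nat.card_sum, Nat.card_prod, ← pow_two] at this
  omega

theorem PairsBound.orderBound {n : ℕ} (h : PairsBound.{u} n) : OrderBound.{u} n := by
  intro q _ k G _ _ ρ hodd hinj hirr hk hn
  have := two_mul_card_le ρ hinj (h q k G ρ hodd hinj hirr hk hn)
  rwa [show Nat.card (Fin k → ZMod q) = q ^ k by simp] at this

theorem PairsBound.apply {n : ℕ} (h : PairsBound.{u} n) [Nontrivial V] (ρ : G →* Module.End (ZMod q) V)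
    (hodd : Odd (Nat.card G)) (hirr : Irred ρ) (hn : Nat.card V < n) : TwoPairs ρ := by
  let ρ' : G ⧸ ρ.ker →* Module.End (ZMod q) V := QuotientGroup.lift ρ.ker ρ le_rfl
  have hi : Function.Injective ρ' := by
    intro x y hxy
    obtain ⟨x, rfl⟩ := QuotientGroup.mk_surjective x
    obtain ⟨y, rfl⟩ := QuotientGroup.mk_surjective y
    refine QuotientGroup.eq.2 (MonoidHom.mem_ker.2 ?_)
    have hxy' : ρ x = ρ y := hxy
    rw [map_mul, ← hxy', ← map_mul, inv_mul_cancel, map_one]
  have hirr' : Irred ρ' := fun W hW => hirr W fun g w hw => hW (QuotientGroup.mk g) w hw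
  have hodd' : Odd (Nat.card (G ⧸ ρ.ker)) :=
    Odd.of_dvd_nat hodd (Subgroup.card_quotient_dvd_card ρ.ker)
  let e := (Module.finBasis (ZMod q) V).equivFun
  let σ : G ⧸ ρ.ker →* Module.End (ZMod q) (Fin (Module.finrank (ZMod q) V) → ZMod q) :=
    { toFun := fun g => e.toLinearMap ∘ₗ ρ' g ∘ₗ e.symm.toLinearMap
      map_one' := by ext x; simp
      map_mul' := fun g h => LinearMap.ext fun x => by simp }
  have hσ : ∀ g x, σ g (e x) = e (ρ' g x) := fun g x => by simp [σ]
  have hσi : Function.Injective σ := fun g k hgk => hi (LinearMap.ext fun x => e.injective (by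
    rw [← hσ, ← hσ, hgk]))
  have hσirr : Irred σ := by
    intro W hW
    rcases hirr' (W.comap e.toLinearMap) (fun g w hw => by
      have h1 := hW g (e w) hw
      rw [hσ] at h1
      exact h1) with h1 | h1
    · left
      refine (Submodule.eq_bot_iff W).2 fun w hw => ?_
      have h2 : e.symm w ∈ W.comap e.toLinearMap := by simpa using hw
      rw [h1, Submodule.mem_bot] at h2
      simpa using congrArg e h2
    · right
      refine Submodule.eq_top_iff'.2 fun w => ?_
      have h2 : e.symm w ∈ W.comap e.toLinearMap := h1 ▸ Submodule.mem_top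
      simpa using h2
  have hc : Nat.card V = q ^ Module.finrank (ZMod q) V := by
    rw [Module.natCard_eq_pow_finrank (K := ZMod q), Nat.card_zmod]
  obtain ⟨a, b, c, d, h1, h2, h3⟩ := h q _ (G ⧸ ρ.ker) σ hodd' hσi hσirr Module.finrank_pos (hc ▸ hn)
  have tr : ∀ x y, (∀ g, σ g x = x → σ g y = y → σ g = 1) →
      ∀ g : G, ρ g (e.symm x) = e.symm x → ρ g (e.symm y) = e.symm y → ρ g = 1 := by
    intro x y hxy g e1 e2
    have e3 : ∀ z, σ (QuotientGroup.mk g) z = e (ρ g (e.symm z)) := fun z => by simp [σ, ρ']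
    have h4 := hxy (QuotientGroup.mk g) (by rw [e3, e1, LinearEquiv.apply_symm_apply])
      (by rw [e3, e2, LinearEquiv.apply_symm_apply])
    refine LinearMap.ext fun z => e.injective ?_
    have h5 := LinearMap.congr_fun h4 (e z)
    rw [e3, LinearEquiv.symm_apply_apply] at h5
    exact h5
  refine ⟨e.symm a, e.symm b, e.symm c, e.symm d, tr a b h1, tr c d h2, fun g ⟨e1, e2⟩ => h3 (QuotientGroup.mk g) ⟨?_, ?_⟩⟩
  · show e (ρ g (e.symm a)) = c
    rw [e1, LinearEquiv.apply_symm_apply]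
  · show e (ρ g (e.symm b)) = d
    rw [e2, LinearEquiv.apply_symm_apply]

/-- Imprimitive groups. -/
theorem imprimitive_pairs [Nontrivial V] (ρ : G →* Module.End (ZMod q) V) (hirr : Irred ρ)
    (himp : ¬ NoDecomp ρ) (hodd : Odd (Nat.card G)) (hsol : Group.IsSolvable G)
    (hIH : PairsBound.{u} (Nat.card V)) : TwoPairs ρ := by
  classical
  let P' : ℕ → Prop := fun t => ∃ (m : ℕ) (D : Fin t → Submodule (ZMod q) V), 2 ≤ t ∧ 0 < m ∧
    (∀ i, Module.finrank (ZMod q) (D i) = m) ∧ iSupIndep D ∧ iSup D = ⊤ ∧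
    ∀ g : G, ∀ i, ∃ j, (D i).map (ρ g) = D j
  have hex : ∃ t, P' t := by
    by_contra hcon
    exact himp fun m t D h1 h2 h3 h4 h5 h6 => hcon ⟨t, m, D, h1, h2, h3, h4, h5, h6⟩
  obtain ⟨t, ⟨m, D, ht2, hm, hD, hind, htop, hperm⟩, hmin⟩ : ∃ t, P' t ∧ ∀ s, s < t → ¬ P' s :=
    ⟨Nat.find hex, Nat.find_spec hex, fun s hs => Nat.find_min hex hs⟩
  have hne : ∀ i, D i ≠ ⊥ := fun i h => by
    have := hD i
    rw [h, finrank_bot] at this
    omega
  have hDinj : Function.Injective D := hind.injective hne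
  choose π hπ using hperm
  have hπ1 : ∀ i, π 1 i = i := fun i => hDinj (by
    rw [← hπ, map_one]
    exact Submodule.map_id _)
  have hπm : ∀ g k i, π (g * k) i = π g (π k i) := fun g k i => hDinj (by
    rw [← hπ, ← hπ, ← hπ, map_mul, Module.End.mul_eq_comp, Submodule.map_comp])
  let Φ : G →* Equiv.Perm (Fin t) :=
    { toFun := fun g => ⟨π g, π g⁻¹, fun i => by rw [← hπm, inv_mul_cancel, hπ1],
        fun i => by rw [← hπm, mul_inv_cancel, hπ1]⟩
      map_one' := Equiv.ext hπ1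
      map_mul' := fun g k => Equiv.ext (hπm g k) }
  have htrans : ∀ i j, ∃ g, π g i = j := by
    intro i j
    by_contra hcon
    push Not at hcon
    have hO : ∀ (g : G) w, w ∈ (⨆ k ∈ {k | ∃ g, π g i = k}, D k) → ρ g w ∈ (⨆ k ∈ {k | ∃ g, π g i = k}, D k) := by
      intro g w hw
      have hle : (⨆ k ∈ {k | ∃ g, π g i = k}, D k).map (ρ g) ≤ ⨆ k ∈ {k | ∃ g, π g i = k}, D k := by
        rw [Submodule.map_iSup]
        refine iSup_le fun k => ?_
        rw [Submodule.map_iSup]
        refine iSup_le fun ⟨g', hg'⟩ => ?_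
        rw [hπ]
        exact le_biSup D (show π g k ∈ {k | ∃ g, π g i = k} from ⟨g * g', by rw [hπm, hg']⟩)
      exact hle ⟨w, hw, rfl⟩
    rcases hirr _ hO with h | h
    · exact hne i (eq_bot_iff.2 (h ▸ le_biSup D (show i ∈ {k | ∃ g, π g i = k} from ⟨1, hπ1 i⟩)))
    · have h1 : Disjoint (D j) (⨆ k ∈ {k | ∃ g, π g i = k}, D k) :=
        hind.disjoint_biSup fun ⟨g, hg⟩ => hcon g hg
      rw [h, disjoint_top] at h1
      exact hne j h1
  -- the group of permutations
  let P := G ⧸ Φ.ker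
  letI : MulAction P (Fin t) := MulAction.compHom (Fin t) (QuotientGroup.kerLift Φ)
  haveI : FaithfulSMul P (Fin t) := ⟨fun {x y} h => QuotientGroup.kerLift_injective Φ (Equiv.ext h)⟩
  have hPapp : ∀ (g : G) i, ((QuotientGroup.mk g : P) • i : Fin t) = π g i := fun g i => rfl
  haveI htr : MulAction.IsPretransitive P (Fin t) := ⟨fun i j => by
    obtain ⟨g, hg⟩ := htrans i j
    exact ⟨(QuotientGroup.mk g : P), hg⟩⟩
  have hprimP : MulAction.IsPreprimitive P (Fin t) := by
    refine { isTrivialBlock_of_isBlock := fun {B} hB => ?_ }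
    by_contra hcon
    rw [MulAction.IsTrivialBlock, not_or, Set.not_subsingleton_iff] at hcon
    obtain ⟨hB2, hBu⟩ := hcon
    have hBne : B.Nonempty := hB2.nonempty
    let ι := ↥(MulAction.orbit P B)
    have hcard : B.ncard * Nat.card ι = t := by
      rw [Nat.card_coe_set_eq, hB.ncard_block_mul_ncard_orbit_eq hBne, Nat.card_eq_fintype_card, Fintype.card_fin]
    have hB1 : 2 ≤ B.ncard := (Set.one_lt_ncard (Set.toFinite _)).2 hB2
    have hlt : Nat.card ι < t := by nlinarith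
    have hι2 : 2 ≤ Nat.card ι := by
      by_contra hlt2
      have h1 : B.ncard = t := by
        interval_cases Nat.card ι <;> omega
      exact hBu (Set.eq_of_subset_of_ncard_le (Set.subset_univ B) (by
        rw [Set.ncard_univ, h1, Nat.card_eq_fintype_card, Fintype.card_fin]))
    let e := (Finite.equivFin ι).symm
    let D' : ι → Submodule (ZMod q) V := fun β => ⨆ j ∈ (β : Set (Fin t)), D j
    have hmap : ∀ (g : G) (β : Set (Fin t)),
        (⨆ j ∈ β, D j).map (ρ g) = ⨆ j ∈ ((QuotientGroup.mk g : P) • β), D j := by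
      intro g β
      rw [← Set.image_smul, iSup_image, Submodule.map_iSup]
      refine iSup_congr fun j => ?_
      rw [Submodule.map_iSup]
      exact iSup_congr fun _ => hπ g j
    have hB0 : ∀ β : ι, ∃ g : G, (β : Set (Fin t)) = (QuotientGroup.mk g : P) • B := by
      rintro ⟨_, ⟨x, rfl⟩⟩
      obtain ⟨g, rfl⟩ := QuotientGroup.mk_surjective x
      exact ⟨g, rfl⟩
    have hfr : ∀ β, Module.finrank (ZMod q) (D' β) = Module.finrank (ZMod q) (⨆ j ∈ B, D j : Submodule (ZMod q) V) := by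
      intro β
      obtain ⟨g, hg⟩ := hB0 β
      show Module.finrank (ZMod q) (⨆ j ∈ (β : Set (Fin t)), D j : Submodule (ZMod q) V) = _
      rw [hg, ← hmap, finrank_map_apply]
    have hindD : iSupIndep D' := by
      intro β
      have h1 : Disjoint (D' β) (⨆ j ∈ ((β : Set (Fin t))ᶜ), D j) :=
        hind.disjoint_biSup_biSup disjoint_compl_right
      refine h1.mono_right (iSup₂_le fun γ hγ => iSup₂_le fun j hj => le_biSup D ?_)
      intro hjβ
      obtain ⟨g₁, hg₁⟩ := hB0 β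
      obtain ⟨g₂, hg₂⟩ := hB0 γ
      refine Set.disjoint_left.1 (hB (g₁ := (QuotientGroup.mk g₁ : P)) (g₂ := (QuotientGroup.mk g₂ : P)) ?_) (hg₁ ▸ hjβ) (hg₂ ▸ hj)
      rw [← hg₁, ← hg₂]
      exact fun he => hγ (Subtype.ext he.symm)
    refine hmin _ hlt ⟨_, fun i => D' (e i), hι2, ?_, fun i => hfr (e i), hindD.comp e.injective, ?_, ?_⟩
    · obtain ⟨j, hj⟩ := hBne
      exact lt_of_lt_of_le (by rw [hD j]; exact hm) (Submodule.finrank_mono (le_biSup D hj))
    · rw [e.surjective.iSup_comp D', eq_top_iff, ← htop]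
      refine iSup_le fun j => ?_
      obtain ⟨j₀, hj₀⟩ := hBne
      obtain ⟨g, hg⟩ := htrans j₀ j
      refine le_trans ?_ (le_iSup D' ⟨(QuotientGroup.mk g : P) • B, MulAction.mem_orbit B _⟩)
      exact le_biSup D (⟨j₀, hj₀, hg⟩ : j ∈ (QuotientGroup.mk g : P) • B)
    · intro g i
      refine ⟨e.symm ⟨(QuotientGroup.mk g : P) • (e i : Set (Fin t)), ?_⟩, ?_⟩
      · obtain ⟨k, hk⟩ := (e i).2
        refine ⟨(QuotientGroup.mk g : P) * k, ?_⟩
        show ((QuotientGroup.mk g : P) * k) • B = (QuotientGroup.mk g : P) • (e i : Set (Fin t))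
        rw [mul_smul]
        exact congrArg _ hk
      · simp only [Equiv.apply_symm_apply]
        exact hmap g _
  have hPodd : Odd (Nat.card P) := Odd.of_dvd_nat hodd (Subgroup.card_quotient_dvd_card Φ.ker)
  haveI : Group.IsSolvable G := hsol
  have hPsol : Group.IsSolvable P := Group.isSolvable_of_surjective (QuotientGroup.mk'_surjective Φ.ker)
  have htodd : Odd t := by
    refine Odd.of_dvd_nat hPodd ?_
    have h1 := Subgroup.index_dvd_card (MulAction.stabilizer P (⟨0, by omega⟩ : Fin t))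
    rwa [MulAction.index_stabilizer_of_transitive, Nat.card_eq_fintype_card, Fintype.card_fin] at h1
  -- dimensions
  have hfV : t * m = Module.finrank (ZMod q) V := by
    have hint : DirectSum.IsInternal D :=
      (DirectSum.isInternal_submodule_iff_iSupIndep_and_iSup_eq_top D).2 ⟨hind, htop⟩
    rw [← (LinearEquiv.ofBijective (DirectSum.coeLinearMap D) hint).finrank_eq, Module.finrank_directSum]
    simp [hD]
  have hq2 : 2 ≤ q := (Fact.out : q.Prime).two_le
  have hVc : Nat.card V = q ^ (t * m) := by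
    rw [Module.natCard_eq_pow_finrank (K := ZMod q), Nat.card_zmod, hfV]
  obtain ⟨Y, hY⟩ := exists_regular_subset (G := P) (Ω := Fin t) (T := Nat.card V) hprimP hPodd hPsol hIH.orderBound (by
    rw [Fintype.card_fin, hVc]
    exact lt_of_le_of_lt (Nat.le_mul_of_pos_right t hm) (Nat.lt_pow_self hq2))
  -- the stabiliser of a summand
  let i₀ : Fin t := ⟨0, by omega⟩
  let H : Subgroup G := (MulAction.stabilizer (Equiv.Perm (Fin t)) i₀).comap Φ
  have hH : ∀ g, g ∈ H ↔ π g i₀ = i₀ := fun g => Iff.rfl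
  have hinv : ∀ (h : H), ∀ x ∈ D i₀, ρ (h : G) x ∈ D i₀ := fun h x hx => by
    have h1 : ρ (h : G) x ∈ (D i₀).map (ρ (h : G)) := ⟨x, hx, rfl⟩
    rwa [hπ, (hH _).1 h.2] at h1
  let ρ₀ : H →* Module.End (ZMod q) (D i₀) :=
    { toFun := fun h => (ρ (h : G)).restrict (hinv h)
      map_one' := LinearMap.ext fun x => Subtype.ext (by simp)
      map_mul' := fun a b => LinearMap.ext fun x => Subtype.ext (by simp) }
  haveI : Nontrivial (D i₀) := Submodule.nontrivial_iff_ne_bot.2 (hne i₀)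
  have hirr₀ : Irred ρ₀ := by
    intro W hW
    let W' : Submodule (ZMod q) V := W.map (D i₀).subtype
    let R : Submodule (ZMod q) V := ⨆ g : G, W'.map (ρ g)
    have hR : ∀ g : G, ∀ w ∈ R, ρ g w ∈ R := by
      intro g w hw
      have hle : R.map (ρ g) ≤ R := by
        rw [Submodule.map_iSup]
        refine iSup_le fun k => le_trans (le_of_eq ?_) (le_iSup (fun g : G => W'.map (ρ g)) (g * k))
        rw [← Submodule.map_comp, map_mul, Module.End.mul_eq_comp]
      exact hle ⟨w, hw, rfl⟩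
    rcases hirr R hR with h | h
    · left
      refine (Submodule.eq_bot_iff W).2 fun w hw => Subtype.ext ?_
      have h1 : (w : V) ∈ R := le_iSup (fun g : G => W'.map (ρ g)) 1
        ⟨w, ⟨w, hw, rfl⟩, by rw [map_one]; rfl⟩
      rw [h, Submodule.mem_bot] at h1
      exact h1
    · right
      have hle : R ≤ W' ⊔ ⨆ j ∈ ({i₀}ᶜ : Set (Fin t)), D j := by
        refine iSup_le fun g => ?_
        by_cases hg : π g i₀ = i₀
        · refine le_sup_of_le_left ?_
          rintro _ ⟨_, ⟨w, hw, rfl⟩, rfl⟩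
          exact ⟨ρ₀ ⟨g, hg⟩ w, hW ⟨g, hg⟩ w hw, rfl⟩
        · refine le_sup_of_le_right ?_
          refine le_trans (Submodule.map_mono (Submodule.map_subtype_le _ _)) ?_
          rw [hπ]
          exact le_biSup D hg
      rw [h] at hle
      refine Submodule.eq_top_iff'.2 fun x => ?_
      obtain ⟨_, ⟨w, hw, rfl⟩, z, hz, hwz⟩ := Submodule.mem_sup.1 (hle (Submodule.mem_top (x := (x : V))))
      have hz' : z ∈ D i₀ := by
        have : z = (x : V) - (w : V) := eq_sub_of_add_eq' hwz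
        rw [this]
        exact (D i₀).sub_mem x.2 w.2
      have h0 : z = 0 := Submodule.disjoint_def.1
        (hind.disjoint_biSup (y := ({i₀}ᶜ : Set (Fin t))) (by simp)) z hz' hz
      rw [h0, add_zero] at hwz
      exact (Subtype.ext hwz : w = x) ▸ hw
  have hlt : Nat.card (D i₀) < Nat.card V := by
    rw [Module.natCard_eq_pow_finrank (K := ZMod q) (V := D i₀), Nat.card_zmod, hD, hVc]
    exact Nat.pow_lt_pow_right hq2 (by nlinarith)
  obtain ⟨a, b, c, d, hab, hcd, hcr⟩ :=
    hIH.apply ρ₀ (Odd.of_dvd_nat hodd H.card_subgroup_dvd_card) hirr₀ hlt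
  choose γ hγ using fun i => htrans i₀ i
  have huniq : ∀ y y' : Fin t → V, (∀ i, y i ∈ D i) → (∀ i, y' i ∈ D i) →
      ∑ i, y i = ∑ i, y' i → ∀ i, y i = y' i := by
    intro y y' hy hy' he i
    refine sub_eq_zero.1 (Submodule.disjoint_def.1 (hind i) _ ((D i).sub_mem (hy i) (hy' i)) ?_)
    have h1 : ∑ j, (y j - y' j) = 0 := by rw [Finset.sum_sub_distrib, he, sub_self]
    rw [← Finset.add_sum_erase _ _ (Finset.mem_univ i)] at h1
    rw [eq_neg_of_add_eq_zero_left h1]
    refine Submodule.neg_mem _ (Submodule.sum_mem _ fun j hj => ?_)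
    exact Submodule.mem_iSup_of_mem j (Submodule.mem_iSup_of_mem (Finset.ne_of_mem_erase hj)
      ((D j).sub_mem (hy j) (hy' j)))
  let S : (Fin t → D i₀) → V := fun x => ∑ i, ρ (γ i) (x i)
  have hγmem : ∀ i, ∀ x : D i₀, ρ (γ i) x ∈ D i := fun i x => by
    have h1 : ρ (γ i) (x : V) ∈ (D i₀).map (ρ (γ i)) := ⟨x, x.2, rfl⟩
    rwa [hπ, hγ] at h1
  have hhmem : ∀ g i, (γ (π g i))⁻¹ * g * γ i ∈ H := fun g i => by
    rw [hH, hπm, hπm, hγ]
    conv_lhs => arg 2; rw [← hγ (π g i)]
    rw [← hπm, inv_mul_cancel, hπ1]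
  let hh : G → Fin t → H := fun g i => ⟨_, hhmem g i⟩
  have hcomp : ∀ g x x', ρ g (S x) = S x' → ∀ i, ρ₀ (hh g i) (x i) = x' (π g i) := by
    intro g x x' he i
    have h1 : ∑ j, ρ g (ρ (γ ((Φ g).symm j)) (x ((Φ g).symm j))) = ∑ j, ρ (γ j) (x' j) := by
      rw [Equiv.sum_comp (Φ g).symm (fun k => ρ g (ρ (γ k) (x k) : V)), ← map_sum]
      exact he
    have h2 := huniq _ _ (fun j => by
      have h3 : ρ g (ρ (γ ((Φ g).symm j)) (x ((Φ g).symm j)) : V) ∈ (D ((Φ g).symm j)).map (ρ g) :=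
        ⟨_, hγmem _ _, rfl⟩
      rw [hπ] at h3
      have h4 : π g ((Φ g).symm j) = j := (Φ g).apply_symm_apply j
      rwa [h4] at h3) (fun j => hγmem _ _) h1 (π g i)
    have h4 : (Φ g).symm (π g i) = i := (Φ g).symm_apply_apply i
    rw [h4] at h2
    refine Subtype.ext ?_
    show ρ ((γ (π g i))⁻¹ * g * γ i) (x i : V) = x' (π g i)
    rw [map_mul, map_mul, Module.End.mul_apply, Module.End.mul_apply, h2, inv_apply_cancel]
  let A : Finset (Fin t) → Fin t → D i₀ := fun Z i => if i ∈ Z then a else c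
  let B : Finset (Fin t) → Fin t → D i₀ := fun Z i => if i ∈ Z then b else d
  have hlab : ∀ g Z Z', ρ g (S (A Z)) = S (A Z') → ρ g (S (B Z)) = S (B Z') →
      (∀ i, π g i ∈ Z' ↔ i ∈ Z) ∧
      (∀ i, ρ₀ (hh g i) (A Z i) = A Z' (π g i) ∧ ρ₀ (hh g i) (B Z i) = B Z' (π g i)) := by
    intro g Z Z' e1 e2
    have h12 := fun i => And.intro (hcomp g _ _ e1 i) (hcomp g _ _ e2 i)
    refine ⟨fun i => ?_, h12⟩
    obtain ⟨h1, h2⟩ := h12 i
    by_cases hi : i ∈ Z <;> by_cases hj : π g i ∈ Z' <;> simp [A, B, hi, hj] at h1 h2 ⊢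
    · exact hcr _ ⟨h1, h2⟩
    · refine hcr (hh g i)⁻¹ ⟨?_, ?_⟩
      · rw [← h1, inv_apply_cancel]
      · rw [← h2, inv_apply_cancel]
  have hfree : ∀ Z : Finset (Fin t), (∀ g : P, (∀ x, g • x ∈ Z ↔ x ∈ Z) → g = 1) →
      ∀ g, ρ g (S (A Z)) = S (A Z) → ρ g (S (B Z)) = S (B Z) → ρ g = 1 := by
    intro Z hZ g e1 e2
    obtain ⟨hl, h12⟩ := hlab g Z Z e1 e2
    have hg1 : ∀ i, π g i = i := fun i => by
      have h1 := hZ (QuotientGroup.mk g : P) hl
      exact (congrArg (fun k : P => k • i) h1).trans (one_smul P i)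
    have hloc : ∀ i, D i ≤ LinearMap.eqLocus (ρ g) 1 := by
      intro i x hx
      have hx' : x ∈ (D i₀).map (ρ (γ i)) := by rw [hπ, hγ]; exact hx
      obtain ⟨y, hy, rfl⟩ := hx'
      obtain ⟨h1, h2⟩ := h12 i
      rw [hg1] at h1 h2
      have h3 : ρ₀ (hh g i) = 1 := by
        by_cases hi : i ∈ Z
        · simp only [A, B, hi, if_true] at h1 h2
          exact hab _ h1 h2
        · simp only [A, B, hi, if_false] at h1 h2
          exact hcd _ h1 h2
      have h4 : ρ ((γ (π g i))⁻¹ * g * γ i) y = y :=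
        congrArg Subtype.val (LinearMap.congr_fun h3 ⟨y, hy⟩)
      rw [hg1] at h4
      show ρ g (ρ (γ i) y) = ρ (γ i) y
      calc ρ g (ρ (γ i) y) = ρ (γ i) (ρ ((γ i)⁻¹ * g * γ i) y) := by
            rw [← Module.End.mul_apply, ← Module.End.mul_apply, ← map_mul, ← map_mul]; group
        _ = _ := by rw [h4]
    refine LinearMap.ext fun x => ?_
    exact ((iSup_le hloc : iSup D ≤ _) (htop ▸ Submodule.mem_top (x := x)))
  refine ⟨S (A Y), S (B Y), S (A Yᶜ), S (B Yᶜ), hfree Y hY, hfree Yᶜ fun g hg => hY g fun x => ?_, ?_⟩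
  · have h1 := hg x
    rw [Finset.mem_compl, Finset.mem_compl, not_iff_not] at h1
    exact h1
  · rintro g ⟨e1, e2⟩
    obtain ⟨hl, -⟩ := hlab g Y Yᶜ e1 e2
    have h1 : Y.map (Φ g).toEmbedding = Yᶜ := by
      ext j
      rw [Finset.mem_map_equiv]
      conv_rhs => rw [show j = π g ((Φ g).symm j) from ((Φ g).apply_symm_apply j).symm, hl]
    have h2 := congrArg Finset.card h1
    rw [Finset.card_map, Finset.card_compl, Fintype.card_fin] at h2
    obtain ⟨i, hi⟩ := htodd
    have := Finset.card_le_univ Y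
    rw [Fintype.card_fin] at this
    omega

end

/-- Two regular orbits on pairs for every irreducible group of odd order. -/
theorem pairsBound : ∀ n : ℕ, PairsBound.{u} n := by
  intro n
  induction n using Nat.strong_induction_on with
  | _ n ih =>
    intro q _ k G _ _ ρ hodd hinj hirr hk hn
    have hsol : Group.IsSolvable G := OddChar.oddSolvable G hodd
    haveI : Nonempty (Fin k) := ⟨⟨0, hk⟩⟩
    have hc : Nat.card (Fin k → ZMod q) = q ^ k := by simp
    have hIH : PairsBound.{u} (Nat.card (Fin k → ZMod q)) := hc ▸ ih _ hn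
    by_cases hprim : NoDecomp ρ
    · exact (primitive_pairs hinj hirr hprim hodd hsol hIH.orderBound).2
    · exact imprimitive_pairs ρ hirr hprim hodd hsol hIH

/-- Completely reducible groups of odd order have a base of two vectors. -/
theorem two_vectors {A : Type u} {V : Type v} [Group A] [Finite A] [AddCommGroup V] [Finite V]
    [DistribMulAction A V] (hA : Odd (Nat.card A))
    (hcr : ∀ U : AddSubgroup V, (∀ a : A, ∀ v ∈ U, a • v ∈ U) →
      ∃ W : AddSubgroup V, (∀ a : A, ∀ w ∈ W, a • w ∈ W) ∧ U ⊓ W = ⊥ ∧ U ⊔ W = ⊤) :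
    ∀ U : AddSubgroup V, (∀ a : A, ∀ v ∈ U, a • v ∈ U) →
      ∃ v ∈ U, ∃ w ∈ U, ∀ a : A, a • v = v → a • w = w → ∀ x ∈ U, a • x = x := by
  classical
  intro U
  induction U using WellFoundedLT.induction with
  | _ U ih =>
    intro hU
    by_cases hbot : U = ⊥
    · exact ⟨0, U.zero_mem, 0, U.zero_mem, fun a _ _ x hx => by
        rw [hbot, AddSubgroup.mem_bot] at hx; rw [hx, smul_zero]⟩
    obtain ⟨U₀, ⟨hU₀, hne, hle⟩, hmin⟩ := Set.Finite.exists_minimal
      (s := {T : AddSubgroup V | (∀ a : A, ∀ v ∈ T, a • v ∈ T) ∧ T ≠ ⊥ ∧ T ≤ U}) (Set.toFinite _)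
      ⟨U, hU, hbot, le_rfl⟩
    have hmin' : ∀ T : AddSubgroup V, (∀ a : A, ∀ v ∈ T, a • v ∈ T) → T ≤ U₀ → T = ⊥ ∨ T = U₀ := by
      intro T hT hTle
      by_cases h0 : T = ⊥
      · exact Or.inl h0
      · exact Or.inr (le_antisymm hTle (hmin ⟨hT, h0, hTle.trans hle⟩ hTle))
    have h1c : 1 < Nat.card U₀ := by
      rw [Finite.one_lt_card_iff_nontrivial]
      exact U₀.nontrivial_iff_ne_bot.2 hne
    obtain ⟨p, hp, hpd⟩ := Nat.exists_prime_and_dvd (ne_of_gt h1c)
    haveI := Fact.mk hp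
    have hpx : ∀ x : U₀, p • x = 0 := by
      let T : AddSubgroup V :=
        { carrier := {x | x ∈ U₀ ∧ p • x = 0}
          zero_mem' := ⟨U₀.zero_mem, smul_zero _⟩
          add_mem' := fun {x y} hx hy => ⟨U₀.add_mem hx.1 hy.1, by rw [smul_add, hx.2, hy.2, add_zero]⟩
          neg_mem' := fun {x} hx => ⟨U₀.neg_mem hx.1, by rw [smul_neg, hx.2, neg_zero]⟩ }
      have hT : ∀ a : A, ∀ v ∈ T, a • v ∈ T := fun a v hv =>
        ⟨hU₀ a v hv.1, by rw [smul_comm, hv.2, smul_zero]⟩
      rcases hmin' T hT (fun x hx => hx.1) with h0 | h0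
      · obtain ⟨x, hx⟩ := exists_prime_addOrderOf_dvd_card' (G := U₀) p hpd
        have h1 : (x : V) ∈ T := ⟨x.2, by
          rw [← AddSubgroupClass.coe_nsmul, ← hx, addOrderOf_nsmul_eq_zero]; rfl⟩
        rw [h0, AddSubgroup.mem_bot] at h1
        rw [show x = 0 from Subtype.ext h1, addOrderOf_zero] at hx
        exact absurd hx.symm hp.one_lt.ne'
      · intro x
        have h1 : (x : V) ∈ T := h0.ge x.2
        exact Subtype.ext (by rw [AddSubgroupClass.coe_nsmul]; exact h1.2)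
    obtain ⟨k, e, σ, hcard, hσ⟩ := @exists_linear_add A _ _ U₀ _ _ p _ (AddCommGroup.zmodModule hpx)
      (fun a => AddMonoidHom.mk' (fun x : U₀ => (⟨a • (x : V), hU₀ a x x.2⟩ : U₀))
        fun x y => Subtype.ext (smul_add a (x : V) y))
      (fun x => Subtype.ext (one_smul A (x : V)))
      (fun a b x => Subtype.ext (mul_smul a b (x : V)))
    have hk : 0 < k := by
      rcases Nat.eq_zero_or_pos k with h0 | h0
      · rw [hcard, h0, pow_zero] at h1c; omega
      · exact h0
    haveI : Nonempty (Fin k) := ⟨⟨0, hk⟩⟩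
    have hirr : Irred σ := by
      intro W hW
      let T : AddSubgroup V := (W.toAddSubgroup.comap e.toAddMonoidHom).map U₀.subtype
      have hT : ∀ a : A, ∀ v ∈ T, a • v ∈ T := by
        rintro a _ ⟨x, hx, rfl⟩
        refine ⟨⟨a • (x : V), hU₀ a x x.2⟩, ?_, rfl⟩
        show e _ ∈ W
        have h1 := hW a (e x) hx
        rw [hσ] at h1
        exact h1
      rcases hmin' T hT (AddSubgroup.map_le_range _ _ |>.trans (le_of_eq U₀.range_subtype)) with h0 | h0
      · left
        refine (Submodule.eq_bot_iff W).2 fun z hz => ?_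
        have h1 : ((e.symm z : U₀) : V) ∈ T := ⟨e.symm z, by
          show e (e.symm z) ∈ W
          rw [AddEquiv.apply_symm_apply]; exact hz, rfl⟩
        rw [h0, AddSubgroup.mem_bot] at h1
        simpa using congrArg e (Subtype.ext h1 : e.symm z = (0 : U₀))
      · right
        refine Submodule.eq_top_iff'.2 fun z => ?_
        obtain ⟨x, hx, hxz⟩ := h0.ge (e.symm z).2
        have h1 : x = e.symm z := Subtype.ext hxz
        rw [h1] at hx
        have h2 : e (e.symm z) ∈ W := hx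
        rwa [AddEquiv.apply_symm_apply] at h2
    have hc : Nat.card (Fin k → ZMod p) = p ^ k := by simp
    obtain ⟨a₀, b₀, -, -, hab, -, -⟩ :=
      (pairsBound.{u} (p ^ k + 1)).apply σ hA hirr (by rw [hc]; exact Nat.lt_succ_self _)
    obtain ⟨W, hW, hWi, hWs⟩ := hcr U₀ hU₀
    have hlt : U ⊓ W < U := by
      refine lt_of_le_of_ne inf_le_left fun h => hne ?_
      rw [eq_bot_iff, ← hWi]
      exact le_inf le_rfl (hle.trans (inf_eq_left.1 h))
    obtain ⟨v₁, hv₁, w₁, hw₁, hvw⟩ := ih _ hlt fun a v hv => ⟨hU a v hv.1, hW a v hv.2⟩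
    refine ⟨(e.symm a₀ : U₀) + v₁, U.add_mem (hle (e.symm a₀).2) hv₁.1,
      (e.symm b₀ : U₀) + w₁, U.add_mem (hle (e.symm b₀).2) hw₁.1, fun a ea eb => ?_⟩
    have split : ∀ x ∈ U₀, ∀ y ∈ W, a • (x + y) = x + y → a • x = x ∧ a • y = y := by
      intro x hx y hy hxy
      rw [smul_add] at hxy
      have h1 : a • x - x = y - a • y := by
        rw [sub_eq_sub_iff_add_eq_add, hxy, add_comm]
      have h2 : a • x - x ∈ U₀ ⊓ W := ⟨U₀.sub_mem (hU₀ a x hx) hx, h1 ▸ W.sub_mem hy (hW a y hy)⟩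
      rw [hWi, AddSubgroup.mem_bot] at h2
      rw [h2] at h1
      exact ⟨sub_eq_zero.1 h2, (sub_eq_zero.1 h1.symm).symm⟩
    obtain ⟨ea₀, ea₁⟩ := split _ (e.symm a₀).2 _ hv₁.2 ea
    obtain ⟨eb₀, eb₁⟩ := split _ (e.symm b₀).2 _ hw₁.2 eb
    have h1 : σ a = 1 := by
      refine hab a ?_ ?_
      · conv_lhs => rw [← e.apply_symm_apply a₀]
        rw [hσ]
        conv_rhs => rw [← e.apply_symm_apply a₀]
        exact congrArg e (Subtype.ext ea₀)
      · conv_lhs => rw [← e.apply_symm_apply b₀]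
        rw [hσ]
        conv_rhs => rw [← e.apply_symm_apply b₀]
        exact congrArg e (Subtype.ext eb₀)
    intro x hx
    obtain ⟨x₀, hx₀, x₁, hx₁, rfl⟩ := AddSubgroup.mem_sup.1 (hWs ▸ AddSubgroup.mem_top x : x ∈ U₀ ⊔ W)
    have hx₁U : x₁ ∈ U := by
      have h2 := U.sub_mem hx (hle hx₀)
      rwa [add_sub_cancel_left] at h2
    rw [smul_add, hvw a ea₁ eb₁ x₁ ⟨hx₁U, hx₁⟩]
    congr 1
    have h2 := hσ a ⟨x₀, hx₀⟩
    rw [h1, Module.End.one_apply] at h2
    exact (congrArg Subtype.val (e.injective h2)).symm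

end Cfsg.Agent.OddBase
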