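import Mathlib

/-!
Arithmetic for the base of a linear group of odd order.
-/

set_option autoImplicit false

namespace Cfsg.Agent.OddBase

theorem pow_nine_le_four_pow {e : ℕ} (he : 25 ≤ e) : e ^ 9 ≤ 4 ^ e := by
  induction e, he using Nat.le_induction with
  | base => norm_num
  | succ e he ih =>
    have h1 : 25 ^ 9 * (e + 1) ^ 9 ≤ 26 ^ 9 * e ^ 9 := by
      rw [← mul_pow, ← mul_pow]; exact Nat.pow_le_pow_left (by omega) 9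
    have h2 : 26 ^ 9 * e ^ 9 ≤ 25 ^ 9 * (4 * e ^ 9) := by
      rw [← mul_assoc]; exact Nat.mul_le_mul_right _ (by norm_num)
    have h3 := Nat.le_of_mul_le_mul_left (h1.trans h2) (by norm_num)
    rw [pow_succ' (4 : ℕ) e]
    omega

/-- The bound for one chief factor. -/
theorem phi_single {P e y : ℕ} (hP : 4 ≤ P)
    (h : (e = 5 ∧ y ≤ 15 ∧ 11 ≤ P) ∨ (e = 7 ∧ y ≤ 63 ∧ 8 ≤ P) ∨ (e = 9 ∧ y ≤ 39) ∨
      (9 ≤ e ∧ (25 ≤ e ∨ e ≤ P) ∧ 2 * y ≤ e ^ 4)) :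
    2 * (e ^ 2 * y) ^ 3 ≤ P ^ (2 * e) := by
  rcases h with ⟨rfl, hy, hP'⟩ | ⟨rfl, hy, hP'⟩ | ⟨rfl, hy⟩ | ⟨he, hor, hy⟩
  · calc 2 * (5 ^ 2 * y) ^ 3 ≤ 2 * (5 ^ 2 * 15) ^ 3 := by gcongr
      _ ≤ 11 ^ (2 * 5) := by norm_num
      _ ≤ P ^ (2 * 5) := Nat.pow_le_pow_left hP' _
  · calc 2 * (7 ^ 2 * y) ^ 3 ≤ 2 * (7 ^ 2 * 63) ^ 3 := by gcongr
      _ ≤ 8 ^ (2 * 7) := by norm_num
      _ ≤ P ^ (2 * 7) := Nat.pow_le_pow_left hP' _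
  · calc 2 * (9 ^ 2 * y) ^ 3 ≤ 2 * (9 ^ 2 * 39) ^ 3 := by gcongr
      _ ≤ 4 ^ (2 * 9) := by norm_num
      _ ≤ P ^ (2 * 9) := Nat.pow_le_pow_left hP _
  · have h9 : e ^ 9 ≤ P ^ e := by
      rcases hor with h25 | hle
      · exact (pow_nine_le_four_pow h25).trans (Nat.pow_le_pow_left hP _)
      · exact (Nat.pow_le_pow_left hle 9).trans (Nat.pow_le_pow_right (by omega) he)
    calc 2 * (e ^ 2 * y) ^ 3 = e ^ 6 * (2 * y ^ 3) := by ring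
      _ ≤ e ^ 6 * (2 * y) ^ 3 := Nat.mul_le_mul_left _ (by ring_nf; omega)
      _ ≤ e ^ 6 * (e ^ 4) ^ 3 := Nat.mul_le_mul_left _ (Nat.pow_le_pow_left hy 3)
      _ = (e ^ 9) ^ 2 := by ring
      _ ≤ (P ^ e) ^ 2 := Nat.pow_le_pow_left h9 2
      _ = P ^ (2 * e) := by ring

/-- The bounds multiply. -/
theorem phi_mul {P e₁ e₂ N₁ N₂ : ℕ} (hP : 1 ≤ P) (h₁ : 2 ≤ e₁) (h₂ : 2 ≤ e₂)
    (b₁ : 2 * N₁ ^ 3 ≤ P ^ (2 * e₁)) (b₂ : 2 * N₂ ^ 3 ≤ P ^ (2 * e₂)) :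
    2 * (N₁ * N₂) ^ 3 ≤ P ^ (2 * (e₁ * e₂)) := by
  calc 2 * (N₁ * N₂) ^ 3 ≤ (2 * N₁ ^ 3) * (2 * N₂ ^ 3) := by ring_nf; omega
    _ ≤ P ^ (2 * e₁) * P ^ (2 * e₂) := Nat.mul_le_mul b₁ b₂
    _ ≤ P ^ (2 * (e₁ * e₂)) := by
      rw [← pow_add]
      exact Nat.pow_le_pow_right hP (by nlinarith)

theorem cube_lt_two_pow (c : ℕ) : 125 * c ^ 3 < 512 * 2 ^ c := by
  rcases Nat.lt_or_ge c 4 with h | h
  · interval_cases c <;> norm_num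
  induction c, h using Nat.le_induction with
  | base => norm_num
  | succ c hc ih =>
    have : (c + 1) ^ 3 ≤ 2 * c ^ 3 := by
      have h4 : 4 * (c + 1) ≤ 5 * c := by omega
      have := Nat.pow_le_pow_left h4 3
      rw [mul_pow, mul_pow] at this
      omega
    rw [pow_succ (2 : ℕ) c]
    omega

theorem exists_root (T : ℕ) : ∃ s : ℝ, 0 ≤ s ∧ s ^ 3 = (T : ℝ) :=
  ⟨(T : ℝ) ^ (((3 : ℕ) : ℝ)⁻¹), Real.rpow_nonneg (Nat.cast_nonneg T) _,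
    Real.rpow_inv_natCast_pow (Nat.cast_nonneg T) (by norm_num)⟩

theorem le_of_cube_le {x y : ℝ} (hy : 0 ≤ y) (h : x ^ 3 ≤ y ^ 3) : x ≤ y :=
  le_of_pow_le_pow_left₀ (by norm_num) hy h

/-- Counting when the centraliser of the abelian subgroup is the subgroup itself. -/
theorem count_base {U n c P T X : ℕ} (hn : n ≤ c * (P - 1)) (hc : 2 ^ c ≤ P) (hPT : P ≤ T)
    (hP : 2 ≤ P) (hX : X ^ 3 ≤ T ^ 2) (hU : 2 * U ≤ 2 + n * (X - 1)) :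
    U + n < T ^ 2 := by
  obtain ⟨s, hs0, hs⟩ := exists_root T
  have hX' : (X : ℝ) ≤ s ^ 2 := le_of_cube_le (by positivity) (by
    rw [← pow_mul, show 2 * 3 = 3 * 2 from rfl, pow_mul, hs]; exact_mod_cast hX)
  have hXs : ((X - 1 : ℕ) : ℝ) ≤ s ^ 2 - 1 := by
    rcases Nat.eq_zero_or_pos X with h | h
    · subst h
      have : (1 : ℝ) ≤ s := le_of_cube_le hs0 (by rw [hs, one_pow]; exact_mod_cast (by omega : 1 ≤ T))
      simp only [Nat.zero_sub, Nat.cast_zero]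
      nlinarith
    · rw [Nat.cast_sub h]; push_cast; linarith
  have hT : (2 : ℝ) ≤ T := by exact_mod_cast hP.trans hPT
  have hn' : (n : ℝ) ≤ c * (s ^ 3 - 1) := by
    refine (Nat.cast_le.2 hn).trans ?_
    rw [Nat.cast_mul, Nat.cast_sub (by omega), hs]
    exact mul_le_mul_of_nonneg_left (by push_cast; linarith [(Nat.cast_le (α := ℝ)).2 hPT]) (Nat.cast_nonneg c)
  have hU' : 2 * (U : ℝ) ≤ 2 + n * (s ^ 2 - 1) := by
    have : 2 * (U : ℝ) ≤ 2 + n * ((X - 1 : ℕ) : ℝ) := by exact_mod_cast hU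
    exact this.trans (by nlinarith [Nat.cast_nonneg (α := ℝ) n])
  have hkey : (c : ℝ) * (s ^ 2 + 1) < 2 * (s ^ 3 + 1) := by
    have h2c : ((2 : ℝ)) ^ c ≤ s ^ 3 := by rw [hs]; exact_mod_cast hc.trans hPT
    have hs1 : 1 < s := by
      by_contra h
      have : s ^ 3 ≤ 1 := pow_le_one₀ hs0 (not_lt.1 h)
      linarith
    rcases Nat.lt_or_ge c 3 with h | h
    · have : (c : ℝ) ≤ 2 := by exact_mod_cast (by omega : c ≤ 2)
      nlinarith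
    · have hs2 : 2 ≤ s := le_of_cube_le hs0
        ((show (2 : ℝ) ^ 3 ≤ 2 ^ c from pow_le_pow_right₀ (by norm_num) h).trans h2c)
      have h5 : 5 * (c : ℝ) / 8 < s := by
        refine lt_of_pow_lt_pow_left₀ 3 hs0 ?_
        have hc3 : 125 * (c : ℝ) ^ 3 < 512 * 2 ^ c := by exact_mod_cast cube_lt_two_pow c
        rw [div_pow, mul_pow, div_lt_iff₀ (by norm_num)]
        nlinarith
      nlinarith
  have hfin : ((U + n : ℕ) : ℝ) < ((T ^ 2 : ℕ) : ℝ) := by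
    push_cast
    rw [← hs]
    have hs3 : (1 : ℝ) < s ^ 3 := by rw [hs]; linarith
    have h1 : 2 * ((U : ℝ) + n) ≤ 2 + n * (s ^ 2 + 1) := by linarith
    have h2 : (n : ℝ) * (s ^ 2 + 1) ≤ c * (s ^ 3 - 1) * (s ^ 2 + 1) :=
      mul_le_mul_of_nonneg_right hn' (by positivity)
    have h3 : (c : ℝ) * (s ^ 2 + 1) * (s ^ 3 - 1) < 2 * (s ^ 3 + 1) * (s ^ 3 - 1) :=
      mul_lt_mul_of_pos_right hkey (by linarith)
    nlinarith
  exact_mod_cast hfin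

/-- Counting when there is an extraspecial part. -/
theorem count_big {U n A N P T Q X : ℕ} (hP : 4 ≤ P) (hA : A ≤ P) (hPT : P ^ 5 ≤ T)
    (hN : 2 * N ^ 3 ≤ T ^ 2) (hn : 2 * n ≤ P * P * N) (hQ : Q ^ 3 ≤ T ^ 4) (hX : X ^ 3 ≤ T ^ 2)
    (hU : 2 * U ≤ 2 + N * (A * T + Q) + n * X) :
    U + n < T ^ 2 := by
  obtain ⟨s, hs0, hs⟩ := exists_root T
  have cb : ∀ (z k : ℕ), z ^ 3 ≤ T ^ k → (z : ℝ) ≤ s ^ k := fun z k h => le_of_cube_le (by positivity) (by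
    rw [← pow_mul, mul_comm, pow_mul, hs]; exact_mod_cast h)
  have hX' := cb X 2 hX
  have hQ' := cb Q 4 hQ
  have hN' : 5 * (N : ℝ) ≤ 4 * s ^ 2 := le_of_cube_le (by positivity) (by
    have : 2 * (N : ℝ) ^ 3 ≤ (s ^ 3) ^ 2 := by rw [hs]; exact_mod_cast hN
    nlinarith [pow_nonneg (Nat.cast_nonneg (α := ℝ) N) 3])
  have hP4 : (4 : ℝ) ≤ P := by exact_mod_cast hP
  have hP5 : (P : ℝ) ^ 5 ≤ s ^ 3 := by rw [hs]; exact_mod_cast hPT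
  have hPs : 2 * (P : ℝ) ≤ s := le_of_cube_le hs0 (by
    refine le_trans ?_ hP5
    have h8 : 8 ≤ (P : ℝ) ^ 2 := by nlinarith
    calc (2 * (P : ℝ)) ^ 3 = (P : ℝ) ^ 3 * 8 := by ring
      _ ≤ (P : ℝ) ^ 3 * P ^ 2 := mul_le_mul_of_nonneg_left h8 (by positivity)
      _ = (P : ℝ) ^ 5 := by ring)
  have hs8 : 8 ≤ s := by linarith
  have hU' : 2 * (U : ℝ) ≤ 2 + N * (A * T + Q) + n * X := by exact_mod_cast hU
  have hn' : 2 * (n : ℝ) ≤ P * P * N := by exact_mod_cast hn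
  have hA' : (A : ℝ) ≤ P := by exact_mod_cast hA
  have hN0 : (0 : ℝ) ≤ N := Nat.cast_nonneg N
  have t1 : (N : ℝ) * (A * T + Q) ≤ 6 / 5 * s ^ 6 := by
    have h1 : (A : ℝ) * T + Q ≤ 3 / 2 * s ^ 4 := by
      rw [← hs]
      have : (A : ℝ) * s ^ 3 ≤ s / 2 * s ^ 3 := mul_le_mul_of_nonneg_right (by linarith) (by positivity)
      nlinarith
    calc (N : ℝ) * (A * T + Q) ≤ (4 / 5 * s ^ 2) * (3 / 2 * s ^ 4) :=
          mul_le_mul (by linarith) h1 (by positivity) (by positivity)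
      _ = 6 / 5 * s ^ 6 := by ring
  have hP2 : 4 * ((P : ℝ) * P) ≤ s ^ 2 := by nlinarith
  have t2 : 2 * (n : ℝ) * (X + 2) ≤ 1 / 4 * s ^ 6 := by
    have h1 : 2 * (n : ℝ) ≤ 1 / 5 * s ^ 4 := by
      refine hn'.trans ?_
      calc (P : ℝ) * P * N ≤ (s ^ 2 / 4) * (4 / 5 * s ^ 2) :=
            mul_le_mul (by linarith) (by linarith) hN0 (by positivity)
        _ = 1 / 5 * s ^ 4 := by ring
    have h2 : (X : ℝ) + 2 ≤ 5 / 4 * s ^ 2 := by nlinarith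
    calc 2 * (n : ℝ) * (X + 2) ≤ (1 / 5 * s ^ 4) * (5 / 4 * s ^ 2) :=
          mul_le_mul h1 h2 (by positivity) (by positivity)
      _ = 1 / 4 * s ^ 6 := by ring
  have hfin : ((U + n : ℕ) : ℝ) < ((T ^ 2 : ℕ) : ℝ) := by
    push_cast
    rw [← hs]
    have : (8 : ℝ) ^ 6 ≤ s ^ 6 := pow_le_pow_left₀ (by norm_num) hs8 6
    nlinarith
  exact_mod_cast hfin

end Cfsg.Agent.OddBase
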