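import Cfsg.Agent.Lib.OddBase.Layer

/-!
Chief factors inside the centraliser of the largest abelian normal subgroup.
-/

set_option autoImplicit false
set_option linter.style.haveILetI false
set_option linter.unusedSectionVars false
set_option maxHeartbeats 1000000

open scoped commutatorElement

namespace Cfsg.Agent.OddBase

open PrimSol

universe u v

section

variable {p : ℕ} [Fact p.Prime] {V : Type v} [AddCommGroup V] [Module (ZMod p) V] [Finite V] [Nontrivial V]
variable {G : Type u} [Group G] [Finite G] {ρ : G →* Module.End (ZMod p) V} {A : Subgroup G}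

theorem relIndex_pos {G' : Type*} [Group G'] [Finite G'] (H K : Subgroup G') : 0 < H.relIndex K :=
  Nat.pos_of_ne_zero Subgroup.index_ne_zero_of_finite

/-- A minimal normal subgroup above the abelian one is a layer. -/
theorem Frame.exists_min_lay (h : Frame ρ A) (hsol : Group.IsSolvable G) {D : Subgroup G} (hDn : D.Normal)
    (hAD : A ≤ D) (hDA : ¬ D ≤ A) (hDC : D ≤ Subgroup.centralizer (A : Set G)) :
    ∃ S, Lay ρ A S ∧ S ≤ D ∧ ¬ S ≤ A ∧
      ∀ T : Subgroup G, T.Normal → A ≤ T → T ≤ S → T = A ∨ T = S := by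
  classical
  haveI := Fintype.ofFinite (Subgroup G)
  obtain ⟨S, hS, hmin⟩ := Finset.exists_min_image
    (Finset.univ.filter fun S : Subgroup G => S.Normal ∧ A ≤ S ∧ S ≤ D ∧ ¬ S ≤ A) (fun S => Nat.card S)
    ⟨D, Finset.mem_filter.2 ⟨Finset.mem_univ _, hDn, hAD, le_rfl, hDA⟩⟩
  obtain ⟨hSn, hAS, hSD, hSA⟩ := (Finset.mem_filter.1 hS).2
  have hmin' : ∀ T : Subgroup G, T.Normal → A ≤ T → T ≤ S → T = A ∨ T = S := fun T hT h1 h2 => by
    by_cases hTA : T ≤ A
    · exact Or.inl (le_antisymm hTA h1)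
    · exact Or.inr (Subgroup.eq_of_le_of_card_ge h2
        (hmin T (Finset.mem_filter.2 ⟨Finset.mem_univ _, hT, h1, h2.trans hSD, hTA⟩)))
  haveI := h.normal
  haveI := hSn
  have hcomm : ⁅S, S⁆ ≤ A := by
    rcases hmin' (⁅S, S⁆ ⊔ A) inferInstance le_sup_right
      (sup_le (Subgroup.commutator_le_right S S) hAS) with h1 | h1
    · exact le_sup_left.trans h1.le
    · exfalso
      refine hSA fun x hx => ?_
      have hperf : ∀ k, S.map (QuotientGroup.mk' A) ≤ derivedSeries (G ⧸ A) k := by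
        intro k
        induction k with
        | zero => exact le_top
        | succ k ih =>
          have h2 : S.map (QuotientGroup.mk' A) =
              ⁅S.map (QuotientGroup.mk' A), S.map (QuotientGroup.mk' A)⁆ := by
            conv_lhs => rw [← h1]
            rw [Subgroup.map_sup, Subgroup.map_commutator, QuotientGroup.map_mk'_self, sup_bot_eq]
          rw [h2, derivedSeries_succ]
          exact Subgroup.commutator_mono ih ih
      haveI := hsol
      obtain ⟨k, hk⟩ := (inferInstance : Group.IsSolvable (G ⧸ A)).solvable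
      have h3 : QuotientGroup.mk' A x ∈ derivedSeries (G ⧸ A) k := hperf k ⟨x, hx, rfl⟩
      rw [hk, Subgroup.mem_bot] at h3
      exact (QuotientGroup.eq_one_iff x).1 h3
  refine ⟨S, ⟨hSn, hAS, hSD.trans hDC, fun x hx y hy => hcomm (Subgroup.commutator_mem_commutator hx hy), ?_⟩,
    hSD, hSA, hmin'⟩
  refine h.max _ inferInstance (fun a ha => ⟨hAS ha, Subgroup.mem_centralizer_iff.2 fun b hb =>
    (Subgroup.mem_centralizer_iff.1 (hDC (hSD hb)) a ha).symm⟩) ?_
  exact fun a ha b hb => Subgroup.mem_centralizer_iff.1 hb.2 a ha.1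

theorem comm_pow_of_central {s b : G} (hs : s * ⁅s, b⁆ = ⁅s, b⁆ * s) (n : ℕ) : ⁅s ^ n, b⁆ = ⁅s, b⁆ ^ n := by
  induction n with
  | zero => simp
  | succ n ih =>
    have hc : Commute s ⁅s, b⁆ := hs
    rw [pow_succ', comm_mul_left, ih, (hc.pow_right n).eq, mul_inv_cancel_right, pow_succ]

/-- An additive action written in coordinates. -/
theorem exists_linear_add {M : Type*} [AddCommGroup M] [Finite M] (q : ℕ) [Fact q.Prime] [Module (ZMod q) M]
    (φ : G → M →+ M) (h1 : ∀ x, φ 1 x = x) (hm : ∀ g k x, φ (g * k) x = φ g (φ k x)) :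
    ∃ (k : ℕ) (e : M ≃+ (Fin k → ZMod q)) (σ : G →* Module.End (ZMod q) (Fin k → ZMod q)),
      Nat.card M = q ^ k ∧ ∀ (g : G) (x : M), σ g (e x) = e (φ g x) := by
  haveI : Module.Finite (ZMod q) M := Module.Finite.of_finite
  let b := (Module.finBasis (ZMod q) M).equivFun
  refine ⟨Module.finrank (ZMod q) M, b.toAddEquiv,
    { toFun := fun g => b.toLinearMap ∘ₗ ((φ g).toZModLinearMap q) ∘ₗ b.symm.toLinearMap
      map_one' := LinearMap.ext fun v => by simp [h1]
      map_mul' := fun g k => LinearMap.ext fun v => by simp [hm] }, ?_, fun g x => ?_⟩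
  · rw [Module.natCard_eq_pow_finrank (K := ZMod q), Nat.card_zmod]
  · simp

/-- An action on a group of prime exponent written in coordinates. -/
theorem exists_linear {Q : Type u} [CommGroup Q] [Finite Q] (q : ℕ) [Fact q.Prime] (hexp : ∀ x : Q, x ^ q = 1)
    (φ : G →* MulAut Q) :
    ∃ (k : ℕ) (e : Additive Q ≃+ (Fin k → ZMod q)) (σ : G →* Module.End (ZMod q) (Fin k → ZMod q)),
      Nat.card Q = q ^ k ∧ ∀ (g : G) (x : Q), σ g (e (Additive.ofMul x)) = e (Additive.ofMul (φ g x)) := by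
  have hq0 : ∀ x : Additive Q, q • x = 0 := fun x => hexp x.toMul
  haveI : Finite (Additive Q) := ‹Finite Q›
  obtain ⟨k, e, σ, hc, hs⟩ := @exists_linear_add G _ _ (Additive Q) _ _ q _ (AddCommGroup.zmodModule hq0)
    (fun g => MonoidHom.toAdditive (φ g).toMonoidHom)
    (fun x => by show Additive.ofMul (φ 1 x.toMul) = x; rw [map_one]; rfl)
    (fun g k x => by show Additive.ofMul (φ (g * k) x.toMul) = Additive.ofMul (φ g (φ k x.toMul)); rw [map_mul]; rfl)
  exact ⟨k, e, σ, (Nat.card_congr Additive.ofMul).trans hc, fun g x => hs g (Additive.ofMul x)⟩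

/-- The action on one chief factor, and its bound. -/
theorem Frame.factor_bound (h : Frame ρ A) (hodd : Odd (Nat.card G)) (hsol : Group.IsSolvable G)
    (hW : OrderBound.{u} (Nat.card V)) {S : Subgroup G} (hS : Lay ρ A S) (hSA : ¬ S ≤ A)
    (hmin : ∀ T : Subgroup G, T.Normal → A ≤ T → T ≤ S → T = A ∨ T = S) :
    ∃ (e y : ℕ) (K : Subgroup G), 5 ≤ e ∧ A.relIndex S = e ^ 2 ∧ K.Normal ∧ K.index ≤ y ∧
      (∀ g ∈ K, ∀ s ∈ S, ⁅g, s⁆ ∈ A) ∧
      2 * (e ^ 2 * y) ^ 3 ≤ Nat.card ↥(alg ρ A) ^ (2 * e) := by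
  classical
  haveI := h.normal
  haveI := hS.normal
  set A' := A.subgroupOf S with hA'
  -- a prime exponent
  have h1 : A.relIndex S ≠ 1 := fun e => hSA (Subgroup.relIndex_eq_one.1 e)
  obtain ⟨q, hq, hqd⟩ := Nat.exists_prime_and_dvd h1
  haveI := Fact.mk hq
  have hQcomm : ∀ x y : ↥S ⧸ A', x * y = y * x := by
    intro x y
    induction x using QuotientGroup.induction_on with
    | H a =>
      induction y using QuotientGroup.induction_on with
      | H b =>
        rw [← QuotientGroup.mk_mul, ← QuotientGroup.mk_mul, QuotientGroup.eq, Subgroup.mem_subgroupOf]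
        have := hS.comm _ (b : ↥S)⁻¹.2 _ (a : ↥S)⁻¹.2
        simpa [commutatorElement_def, mul_inv_rev, mul_assoc] using this
  letI : CommGroup (↥S ⧸ A') := { (inferInstance : Group (↥S ⧸ A')) with mul_comm := hQcomm }
  have hexp : ∀ s ∈ S, s ^ q ∈ A := by
    let T : Subgroup G :=
      { carrier := {x | x ∈ S ∧ x ^ q ∈ A}
        one_mem' := ⟨one_mem S, by rw [one_pow]; exact one_mem A⟩
        mul_mem' := fun {x y} hx hy => ⟨mul_mem hx.1 hy.1, by
          have e1 : ∀ z : ↥S, ((z : G) ^ q ∈ A ↔ (QuotientGroup.mk z : ↥S ⧸ A') ^ q = 1) := fun z => by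
            rw [← QuotientGroup.mk_pow, QuotientGroup.eq_one_iff, Subgroup.mem_subgroupOf, SubgroupClass.coe_pow]
          have hx' := (e1 ⟨x, hx.1⟩).1 hx.2
          have hy' := (e1 ⟨y, hy.1⟩).1 hy.2
          refine (e1 (⟨x, hx.1⟩ * ⟨y, hy.1⟩)).2 ?_
          rw [QuotientGroup.mk_mul, mul_pow, hx', hy', one_mul]⟩
        inv_mem' := fun {x} hx => ⟨inv_mem hx.1, by rw [inv_pow]; exact inv_mem hx.2⟩ }
    have hTn : T.Normal := ⟨fun x hx g => ⟨hS.normal.conj_mem x hx.1 g, by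
      rw [conj_pow]; exact h.normal.conj_mem _ hx.2 g⟩⟩
    rcases hmin T hTn (fun a ha => ⟨hS.le ha, A.pow_mem ha q⟩) (fun x hx => hx.1) with hT | hT
    · exfalso
      obtain ⟨z, hz⟩ := exists_prime_orderOf_dvd_card' (G := ↥S ⧸ A') q hqd
      obtain ⟨z, rfl⟩ := QuotientGroup.mk_surjective z
      have hzT : (z : G) ∈ T := ⟨z.2, by
        have := pow_orderOf_eq_one (QuotientGroup.mk z : ↥S ⧸ A')
        rwa [hz, ← QuotientGroup.mk_pow, QuotientGroup.eq_one_iff, Subgroup.mem_subgroupOf,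
          SubgroupClass.coe_pow] at this⟩
      rw [hT] at hzT
      rw [(QuotientGroup.eq_one_iff z).2 hzT, orderOf_one] at hz
      exact hq.ne_one hz.symm
    · exact fun s hs => (hT.ge hs).2
  -- an element of order q in the field
  obtain ⟨s, hs, hsA⟩ := SetLike.not_le_iff_exists.1 hSA
  obtain ⟨b, hb, hsb⟩ : ∃ b ∈ S, ⁅s, b⁆ ≠ 1 := by
    by_contra hcon
    push Not at hcon
    exact hsA (hS.cent ⟨hs, Subgroup.mem_centralizer_iff.2 fun b hb =>
      (commutatorElement_eq_one_iff_mul_comm.1 (hcon b hb)).symm⟩)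
  have hlA := hS.comm s hs b hb
  have hl : orderOf ⁅s, b⁆ = q := by
    refine orderOf_eq_prime ?_ hsb
    rw [← comm_pow_of_central (Subgroup.mem_centralizer_iff.1 (hS.leC hs) _ hlA).symm]
    exact commutatorElement_eq_one_iff_mul_comm.2
      (Subgroup.mem_centralizer_iff.1 (hS.leC hb) _ (hexp s hs))
  have hq2 : q ≠ 2 := by
    rintro rfl
    exact Nat.not_even_iff_odd.2 hodd (even_iff_two_dvd.2 (hl ▸ orderOf_dvd_natCard _))
  have hqP : q ∣ Nat.card ↥(alg ρ A) - 1 := by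
    refine dvd_trans ?_ h.card_dvd
    rw [← hl, show orderOf ⁅s, b⁆ = orderOf (⟨_, hlA⟩ : A) from Subgroup.orderOf_coe ⟨_, hlA⟩]
    exact orderOf_dvd_natCard _
  obtain ⟨c, hc0, hP, -⟩ := h.card_alg
  have hP2 : 2 ≤ Nat.card ↥(alg ρ A) := by
    rw [hP]
    exact (Fact.out : p.Prime).two_le.trans (Nat.le_self_pow hc0.ne' p)
  have hqle : q + 1 ≤ Nat.card ↥(alg ρ A) := by
    have := Nat.le_of_dvd (by omega) hqP
    omega
  -- the index is a square
  haveI := Fintype.ofFinite (Subgroup G)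
  obtain ⟨L, hL, hLmax⟩ := Finset.exists_max_image
    (Finset.univ.filter fun L : Subgroup G => A ≤ L ∧ L ≤ S ∧ L ≤ Subgroup.centralizer (L : Set G))
    (fun L => Nat.card L) ⟨A, Finset.mem_filter.2 ⟨Finset.mem_univ _, le_rfl, hS.le, h.le_cent⟩⟩
  obtain ⟨hAL, hLS, hLc⟩ := (Finset.mem_filter.1 hL).2
  have hCL : Subgroup.centralizer (L : Set G) ⊓ S = L := by
    refine le_antisymm (fun x hx => ?_) (le_inf hLc hLS)
    have h2 : L ⊔ Subgroup.zpowers x ≤ Subgroup.centralizer (L : Set G) :=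
      sup_le hLc ((Subgroup.zpowers_le).2 hx.1)
    have h3 : L ⊔ Subgroup.zpowers x ≤ Subgroup.centralizer ((L ⊔ Subgroup.zpowers x : Subgroup G) : Set G) := by
      refine sup_le (Subgroup.le_centralizer_iff.1 h2) (Subgroup.le_centralizer_iff.1 (sup_le ?_ ?_))
      · exact Subgroup.le_centralizer_iff.1 ((Subgroup.zpowers_le).2 hx.1)
      · exact Subgroup.zpowers_le.2 (Subgroup.mem_centralizer_iff.2 fun y hy => by
          obtain ⟨i, rfl⟩ := hy
          exact ((Commute.refl x).zpow_left i).eq)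
    have h4 := Subgroup.eq_of_le_of_card_ge le_sup_left (hLmax (L ⊔ Subgroup.zpowers x)
      (Finset.mem_filter.2 ⟨Finset.mem_univ _, hAL.trans le_sup_left,
        sup_le hLS (Subgroup.zpowers_le.2 hx.2), h3⟩))
    exact h4 ▸ Subgroup.mem_sup_right (Subgroup.mem_zpowers x)
  have hLn : (L.subgroupOf S).Normal := ⟨fun x hx g => by
    rw [Subgroup.mem_subgroupOf] at hx ⊢
    have := mul_mem (hAL (hS.comm _ g.2 _ (hLS hx))) hx
    simpa [commutatorElement_def] using this⟩
  have e1 : L.relIndex S ≤ A.relIndex L := by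
    haveI : (A.subgroupOf L).Normal := inferInstance
    have := h.relIndex_le (X := S) (Y := L) (Y₀ := A) (hLS.trans hS.leC)
      (fun x hx y hy => hS.comm x hx y (hLS hy)) hS.leC
    rwa [← Subgroup.inf_relIndex_right, hCL] at this
  have e2 : A.relIndex L ≤ L.relIndex S := by
    have h5 := h.relIndex_le (X := L) (Y := S) (Y₀ := L) hS.leC
      (fun x hx y hy => hS.comm x (hLS hx) y hy) hLc
    rwa [← Subgroup.inf_relIndex_right, show Subgroup.centralizer (S : Set G) ⊓ L = A from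
      le_antisymm (fun x hx => hS.cent ⟨hLS hx.2, hx.1⟩)
        (fun a ha => ⟨((hS.inf_cent h).ge ha).2, hAL ha⟩)] at h5
  set e := A.relIndex L with he
  have hsq : A.relIndex S = e ^ 2 := by
    rw [← Subgroup.relIndex_mul_relIndex A L S hAL hLS, le_antisymm e1 e2, pow_two]
  -- the action on the factor
  have hconj : ∀ g : G, A'.map (MulAut.conjNormal g : MulAut ↥S).toMonoidHom = A' := by
    intro g
    refine le_antisymm ?_ fun a ha => ?_
    · rintro _ ⟨a, ha, rfl⟩
      exact Subgroup.mem_subgroupOf.2 (by simpa using h.normal.conj_mem _ ha g)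
    · refine ⟨(MulAut.conjNormal g : MulAut ↥S).symm a, ?_, (MulAut.conjNormal g : MulAut ↥S).apply_symm_apply a⟩
      exact Subgroup.mem_subgroupOf.2 (by simpa using h.normal.conj_mem _ ha g⁻¹)
  let φ : G →* MulAut (↥S ⧸ A') :=
    { toFun := fun g => QuotientGroup.congr A' A' (MulAut.conjNormal g : MulAut ↥S) (hconj g)
      map_one' := MulEquiv.ext fun x => by
        induction x using QuotientGroup.induction_on with
        | H z =>
          show QuotientGroup.mk ((MulAut.conjNormal 1 : MulAut ↥S) z) = QuotientGroup.mk z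
          rw [map_one]; rfl
      map_mul' := fun g k => MulEquiv.ext fun x => by
        induction x using QuotientGroup.induction_on with
        | H z =>
          show QuotientGroup.mk ((MulAut.conjNormal (g * k) : MulAut ↥S) z) =
            QuotientGroup.mk ((MulAut.conjNormal g : MulAut ↥S) ((MulAut.conjNormal k : MulAut ↥S) z))
          rw [map_mul]; rfl }
  obtain ⟨k, ev, σ, hk0, hσ0⟩ := exists_linear q (fun x : ↥S ⧸ A' => by
    obtain ⟨z, rfl⟩ := QuotientGroup.mk_surjective x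
    rw [← QuotientGroup.mk_pow, QuotientGroup.eq_one_iff, Subgroup.mem_subgroupOf, SubgroupClass.coe_pow]
    exact hexp z z.2) φ
  let mk : ↥S → (Fin k → ZMod q) := fun z => ev (Additive.ofMul (QuotientGroup.mk z : ↥S ⧸ A'))
  have hmk : ∀ v, ∃ z, mk z = v := fun v => by
    obtain ⟨z, hz⟩ := QuotientGroup.mk_surjective (ev.symm v).toMul
    exact ⟨z, show ev (Additive.ofMul (QuotientGroup.mk z : ↥S ⧸ A')) = v by
      rw [hz, ofMul_toMul, AddEquiv.apply_symm_apply]⟩
  have hmk0 : ∀ z, mk z = 0 ↔ (z : G) ∈ A := fun z => by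
    show ev _ = 0 ↔ _
    rw [map_eq_zero_iff _ ev.injective]
    exact (Iff.trans ⟨fun e0 => congrArg Additive.toMul e0, fun e0 => congrArg Additive.ofMul e0⟩
      (QuotientGroup.eq_one_iff z)).trans Subgroup.mem_subgroupOf
  have hmk1 : ∀ z z', mk (z * z') = mk z + mk z' := fun z z' => by
    show ev _ = ev _ + ev _
    rw [← map_add, QuotientGroup.mk_mul, ofMul_mul]
  have hσ : ∀ (g : G) (z : ↥S), σ g (mk z) = mk ((MulAut.conjNormal g : MulAut ↥S) z) := fun g z =>
    hσ0 g (QuotientGroup.mk z)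
  haveI : Nontrivial (Fin k → ZMod q) :=
    ⟨⟨mk ⟨s, hs⟩, 0, fun e0 => hsA ((hmk0 _).1 e0)⟩⟩
  have hirr : Irred σ := by
    intro W hW
    let T : Subgroup G :=
      { carrier := {x | ∃ hx : x ∈ S, mk ⟨x, hx⟩ ∈ W}
        one_mem' := ⟨one_mem S, by rw [(hmk0 _).2 (one_mem A)]; exact W.zero_mem⟩
        mul_mem' := fun {x y} ⟨hx, hx'⟩ ⟨hy, hy'⟩ => ⟨mul_mem hx hy, by
          have := hmk1 ⟨x, hx⟩ ⟨y, hy⟩
          exact this ▸ W.add_mem hx' hy'⟩
        inv_mem' := fun {x} ⟨hx, hx'⟩ => ⟨inv_mem hx, by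
          have h2 := hmk1 ⟨x, hx⟩ ⟨x⁻¹, inv_mem hx⟩
          have h3 : mk (⟨x, hx⟩ * ⟨x⁻¹, inv_mem hx⟩) = 0 := (hmk0 _).2 (by simp)
          rw [h3] at h2
          rw [eq_neg_of_add_eq_zero_right h2.symm]
          exact W.neg_mem hx'⟩ }
    have hTn : T.Normal := ⟨fun x hx g => by
      obtain ⟨hxS, hxW⟩ := hx
      refine ⟨hS.normal.conj_mem x hxS g, ?_⟩
      have := hW g _ hxW
      rw [hσ] at this
      convert this using 3
      simp⟩
    have hAT : A ≤ T := fun a ha => ⟨hS.le ha, by rw [(hmk0 _).2 ha]; exact W.zero_mem⟩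
    rcases hmin T hTn hAT (fun x hx => hx.1) with hT | hT
    · left
      refine (Submodule.eq_bot_iff W).2 fun x hx => ?_
      obtain ⟨z, rfl⟩ := hmk x
      have hzT : (z : G) ∈ T := ⟨z.2, hx⟩
      rw [hT] at hzT
      exact (hmk0 z).2 hzT
    · right
      refine Submodule.eq_top_iff'.2 fun x => ?_
      obtain ⟨z, rfl⟩ := hmk x
      obtain ⟨_, hzW⟩ := hT.ge z.2
      exact hzW
  let σ' : G ⧸ σ.ker →* Module.End (ZMod q) (Fin k → ZMod q) := QuotientGroup.lift σ.ker σ le_rfl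
  have hσ'i : Function.Injective σ' := by
    intro x y hxy
    obtain ⟨x, rfl⟩ := QuotientGroup.mk_surjective x
    obtain ⟨y, rfl⟩ := QuotientGroup.mk_surjective y
    refine QuotientGroup.eq.2 (MonoidHom.mem_ker.2 ?_)
    have hxy' : σ x = σ y := hxy
    rw [map_mul, ← hxy', ← map_mul, inv_mul_cancel, map_one]
  have hirr' : Irred σ' := fun W hW => hirr W fun g w hw => hW (QuotientGroup.mk g) w hw
  haveI : Group.IsSolvable (G ⧸ σ.ker) := by haveI := hsol; infer_instance
  have hodd' : Odd (Nat.card (G ⧸ σ.ker)) := Odd.of_dvd_nat hodd (Subgroup.card_quotient_dvd_card _)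
  set y := Nat.card (G ⧸ σ.ker) with hy
  have hcardM : Nat.card (Fin k → ZMod q) = e ^ 2 := by
    rw [← Nat.card_congr ev.toEquiv, Nat.card_congr Additive.toMul]
    exact hsq
  have hqk : q ^ k = e ^ 2 := by
    rw [← hk0]
    exact hsq
  obtain ⟨j, -, hj⟩ := (Nat.dvd_prime_pow hq).1 (hqk ▸ dvd_pow_self e two_ne_zero : e ∣ q ^ k)
  have hkj : k = 2 * j := Nat.pow_right_injective hq.two_le (by
    show q ^ k = q ^ (2 * j)
    rw [hqk, hj, ← pow_mul, mul_comm])
  have hj1 : 1 ≤ j := by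
    have : 0 < k := Nat.pos_of_ne_zero fun hk => by
      subst hk
      exact (not_nontrivial_iff_subsingleton.2 (inferInstance : Subsingleton (Fin 0 → ZMod q))) inferInstance
    omega
  obtain ⟨m, -, hT, hm⟩ := h.relIndex_le_sq hS
  have hem : e ≤ m := (Nat.pow_le_pow_iff_left two_ne_zero).1 (hsq ▸ hm)
  obtain ⟨hs3, hs5, hs7, hs39⟩ := small_bound σ' hσ'i hirr' hodd' inferInstance
  rw [Module.finrank_fin_fun] at hs3 hs5 hs7 hs39
  have hP4 : 4 ≤ Nat.card ↥(alg ρ A) := by
    have := hq.two_le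
    omega
  have hybound : 2 * y ≤ (e ^ 2) ^ 2 := by
    rw [← hcardM]
    refine hW.apply σ' hodd' hσ'i hirr' ?_
    rw [hcardM, hT]
    calc e ^ 2 < 4 ^ e := by
          have h6 : e < 2 ^ e := Nat.lt_two_pow_self
          rw [show (4 : ℕ) = 2 ^ 2 from rfl, ← pow_mul, mul_comm, pow_mul]
          exact Nat.pow_lt_pow_left h6 two_ne_zero
      _ ≤ Nat.card ↥(alg ρ A) ^ e := Nat.pow_le_pow_left hP4 e
      _ ≤ Nat.card ↥(alg ρ A) ^ m := Nat.pow_le_pow_right (by omega) hem
  have hcases : (e = 5 ∧ y ≤ 15 ∧ 11 ≤ Nat.card ↥(alg ρ A)) ∨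
      (e = 7 ∧ y ≤ 63 ∧ 8 ≤ Nat.card ↥(alg ρ A)) ∨ (e = 9 ∧ y ≤ 39) ∨
      (9 ≤ e ∧ (25 ≤ e ∨ e ≤ Nat.card ↥(alg ρ A)) ∧ 2 * y ≤ e ^ 4) := by
    have hy4 : 2 * y ≤ e ^ 4 := by rw [show e ^ 4 = (e ^ 2) ^ 2 by ring]; exact hybound
    have hq3 : 3 ≤ q := by have := hq.two_le; omega
    have hne : ∀ r, ¬ r.Prime → q ≠ r := fun r hr he => hr (he ▸ hq)
    have h4 : q ≠ 4 := hne 4 (by norm_num)
    rcases Nat.lt_or_ge j 2 with hlt | hge
    · have hj' : j = 1 := by omega
      have hj2 : k = 2 := by omega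
      rw [hj', pow_one] at hj
      have h6 : q ≠ 6 := hne 6 (by norm_num)
      have h8 : q ≠ 8 := hne 8 (by norm_num)
      rcases (show q = 3 ∨ q = 5 ∨ q = 7 ∨ 9 ≤ q by omega) with h' | h' | h' | h'
      · exact absurd hj2 (hs3 h')
      · refine Or.inl ⟨by omega, hs5 h' hj2, ?_⟩
        by_contra hcon
        have hP6 : Nat.card ↥(alg ρ A) = 6 := by
          obtain ⟨u, hu⟩ := hqP
          rw [h'] at hu
          omega
        have h23 : ∀ r : ℕ, r.Prime → r ∣ 6 → r = p := fun r hr hd =>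
          (Nat.prime_dvd_prime_iff_eq hr Fact.out).1 (hr.dvd_of_dvd_pow (hP ▸ hP6.symm ▸ hd))
        have := h23 2 Nat.prime_two (by norm_num)
        have := h23 3 Nat.prime_three (by norm_num)
        omega
      · exact Or.inr (Or.inl ⟨by omega, hs7 h' hj2, by omega⟩)
      · exact Or.inr (Or.inr (Or.inr ⟨by omega, Or.inr (by omega), hy4⟩))
    · have he9 : q ^ 2 ≤ e := hj ▸ Nat.pow_le_pow_right hq.pos hge
      rcases Nat.lt_or_ge q 5 with hq5 | hq5
      · have hq' : q = 3 := by omega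
        rw [hq'] at hj
        rcases Nat.lt_or_ge j 3 with hlt3 | hge3
        · have hj' : j = 2 := by omega
          exact Or.inr (Or.inr (Or.inl ⟨by rw [hj, hj']; norm_num, hs39 hq' (Or.inr (by omega))⟩))
        · have : 3 ^ 3 ≤ e := hj ▸ Nat.pow_le_pow_right (by norm_num) hge3
          exact Or.inr (Or.inr (Or.inr ⟨by omega, Or.inl (by omega), hy4⟩))
      · have : 5 ^ 2 ≤ e := (Nat.pow_le_pow_left hq5 2).trans he9
        exact Or.inr (Or.inr (Or.inr ⟨by omega, Or.inl (by omega), hy4⟩))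
  refine ⟨e, y, σ.ker, by omega, hsq, inferInstance, le_rfl, fun g hg t ht => ?_, phi_single hP4 hcases⟩
  have h7 := LinearMap.congr_fun (MonoidHom.mem_ker.1 hg) (mk ⟨t, ht⟩)
  rw [hσ, Module.End.one_apply] at h7
  have h8 : (QuotientGroup.mk ((MulAut.conjNormal g : MulAut ↥S) ⟨t, ht⟩) : ↥S ⧸ A') =
      QuotientGroup.mk ⟨t, ht⟩ := Additive.ofMul.injective (ev.injective h7)
  rw [QuotientGroup.eq, Subgroup.mem_subgroupOf] at h8
  have h9 := h.normal.conj_mem _ (inv_mem h8) t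
  simpa [commutatorElement_def, mul_assoc] using h9

/-- The layer of a normal subgroup. -/
theorem Frame.exists_layers (h : Frame ρ A) (hodd : Odd (Nat.card G)) (hsol : Group.IsSolvable G)
    (hW : OrderBound.{u} (Nat.card V)) (D : Subgroup G) (hDn : D.Normal)
    (hAD : A ≤ D) (hDA : ¬ D ≤ A) (hDC : D ≤ Subgroup.centralizer (A : Set G)) :
    ∃ B e, Lay ρ A B ∧ B ≤ D ∧ D ⊓ Subgroup.centralizer (B : Set G) ≤ A ∧ 5 ≤ e ∧
      A.relIndex B = e ^ 2 ∧ 2 * (A.relIndex D) ^ 3 ≤ Nat.card ↥(alg ρ A) ^ (2 * e) := by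
  classical
  induction hn : Nat.card D using Nat.strong_induction_on generalizing D with
  | _ n ih =>
  haveI := h.normal
  haveI := hDn
  obtain ⟨S, hS, hSD, hSA, hmin⟩ := h.exists_min_lay hsol hDn hAD hDA hDC
  haveI := hS.normal
  obtain ⟨e, y, K, he5, he, hKn, hKy, hK, hb⟩ := h.factor_bound hodd hsol hW hS hSA hmin
  set D₀ := D ⊓ Subgroup.centralizer (S : Set G) with hD₀
  haveI : D₀.Normal := inferInstance
  have hAD0 : A ≤ D₀ := le_inf hAD fun a ha => ((hS.inf_cent h).ge ha).2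
  have hSD0 : S ⊓ D₀ = A :=
    le_antisymm (fun x hx => hS.cent ⟨hx.1, hx.2.2⟩) (le_inf hS.le hAD0)
  -- the kernel
  have hKD : K ⊓ D ≤ S ⊔ D₀ := by
    intro g hg
    have h1 := h.inner hS (hDC hg.2) (hK g hg.1)
    obtain ⟨s, hs, z, hz, rfl⟩ := Subgroup.mem_sup_of_normal_left.1 h1
    refine Subgroup.mul_mem_sup hs ⟨?_, hz.2⟩
    have := mul_mem (inv_mem (hSD hs)) hg.2
    rwa [inv_mul_cancel_left] at this
  have hN : A.relIndex D ≤ (e ^ 2 * y) * A.relIndex D₀ := by
    rw [← Subgroup.relIndex_mul_relIndex A (S ⊔ D₀) D (hS.le.trans le_sup_left) (sup_le hSD inf_le_left)]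
    have h1 : A.relIndex (S ⊔ D₀) = A.relIndex D₀ * e ^ 2 := by
      rw [← Subgroup.relIndex_mul_relIndex A D₀ (S ⊔ D₀) hAD0 le_sup_right, Subgroup.relIndex_sup_right,
        ← Subgroup.inf_relIndex_right D₀ S, inf_comm, hSD0, he]
    have h2 : (S ⊔ D₀).relIndex D ≤ y := by
      haveI := hKn
      refine le_trans ?_ hKy
      refine le_trans (Nat.le_of_dvd (relIndex_pos _ _) (Subgroup.relIndex_dvd_of_le_left D hKD)) ?_
      rw [Subgroup.inf_relIndex_right]
      exact Nat.le_of_dvd (Nat.pos_of_ne_zero Subgroup.index_ne_zero_of_finite)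
        (Subgroup.relIndex_dvd_index_of_normal K D)
    rw [h1]
    calc A.relIndex D₀ * e ^ 2 * (S ⊔ D₀).relIndex D ≤ A.relIndex D₀ * e ^ 2 * y :=
          Nat.mul_le_mul_left _ h2
      _ = _ := by ring
  by_cases h0 : D₀ ≤ A
  · refine ⟨S, e, hS, hSD, h0, he5, he, ?_⟩
    rw [Subgroup.relIndex_eq_one.2 h0, mul_one] at hN
    exact le_trans (Nat.mul_le_mul_left 2 (Nat.pow_le_pow_left hN 3)) hb
  have hlt : Nat.card D₀ < n := by
    subst hn
    refine lt_of_le_of_ne (Subgroup.card_le_of_le inf_le_left) fun heq => hSA fun s hs => ?_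
    have h1 := Subgroup.eq_of_le_of_card_ge (inf_le_left : D₀ ≤ D) heq.ge
    exact hS.cent ⟨hs, (h1.ge (hSD hs)).2⟩
  obtain ⟨B', e', hB', hB'D, hB'c, he5', he', hb'⟩ :=
    ih _ hlt D₀ inferInstance hAD0 h0 (inf_le_left.trans hDC) rfl
  haveI := hB'.normal
  have hcross : ∀ s ∈ S, ∀ z ∈ B', s * z = z * s := fun s hs z hz =>
    Subgroup.mem_centralizer_iff.1 (hB'D hz).2 s hs
  refine ⟨S ⊔ B', e * e', ⟨inferInstance, hS.le.trans le_sup_left, sup_le hS.leC hB'.leC, ?_, ?_⟩,
    sup_le hSD (hB'D.trans inf_le_left), ?_, by nlinarith, ?_, ?_⟩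
  · intro x hx x' hx'
    obtain ⟨a, ha, z, hz, rfl⟩ := Subgroup.mem_sup_of_normal_left.1 hx
    obtain ⟨a', ha', z', hz', rfl⟩ := Subgroup.mem_sup_of_normal_left.1 hx'
    rw [← QuotientGroup.eq_one_iff (N := A)]
    have c1 : ∀ u ∈ S, ∀ w ∈ S, (QuotientGroup.mk u : G ⧸ A) * QuotientGroup.mk w = QuotientGroup.mk w * QuotientGroup.mk u := by
      intro u hu w hw
      have := (QuotientGroup.eq_one_iff (N := A) _).2 (hS.comm u hu w hw)
      rwa [← QuotientGroup.mk'_apply, map_commutatorElement, commutatorElement_eq_one_iff_mul_comm] at this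
    have c2 : ∀ u ∈ B', ∀ w ∈ B', (QuotientGroup.mk u : G ⧸ A) * QuotientGroup.mk w = QuotientGroup.mk w * QuotientGroup.mk u := by
      intro u hu w hw
      have := (QuotientGroup.eq_one_iff (N := A) _).2 (hB'.comm u hu w hw)
      rwa [← QuotientGroup.mk'_apply, map_commutatorElement, commutatorElement_eq_one_iff_mul_comm] at this
    have c3 : ∀ u ∈ S, ∀ w ∈ B', (QuotientGroup.mk u : G ⧸ A) * QuotientGroup.mk w = QuotientGroup.mk w * QuotientGroup.mk u :=
      fun u hu w hw => by rw [← QuotientGroup.mk_mul, ← QuotientGroup.mk_mul, hcross u hu w hw]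
    rw [← QuotientGroup.mk'_apply, map_commutatorElement, commutatorElement_eq_one_iff_mul_comm, map_mul, map_mul]
    have C : ∀ {u w : G}, (QuotientGroup.mk u : G ⧸ A) * QuotientGroup.mk w = QuotientGroup.mk w * QuotientGroup.mk u →
        Commute (QuotientGroup.mk' A u) (QuotientGroup.mk' A w) := fun e => e
    exact Commute.mul_left ((C (c1 a ha a' ha')).mul_right (C (c3 a ha z' hz')))
      ((C (c3 a' ha' z hz).symm).mul_right (C (c2 z hz z' hz')))
  · rintro x ⟨hx, hxc⟩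
    obtain ⟨a, ha, z, hz, rfl⟩ := Subgroup.mem_sup_of_normal_left.1 hx
    have hzS : z ∈ Subgroup.centralizer (S : Set G) := (hB'D hz).2
    have hxS : a * z ∈ Subgroup.centralizer (S : Set G) :=
      Subgroup.centralizer_le (SetLike.coe_subset_coe.2 le_sup_left) hxc
    have haA : a ∈ A := hS.cent ⟨ha, by simpa using mul_mem hxS (inv_mem hzS)⟩
    refine hB'.cent ⟨mul_mem (hB'.le haA) hz, ?_⟩
    exact Subgroup.centralizer_le (SetLike.coe_subset_coe.2 le_sup_right) hxc
  · rintro x ⟨hxD, hxc⟩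
    exact hB'c ⟨⟨hxD, Subgroup.centralizer_le (SetLike.coe_subset_coe.2 le_sup_left) hxc⟩,
      Subgroup.centralizer_le (SetLike.coe_subset_coe.2 le_sup_right) hxc⟩
  · rw [← Subgroup.relIndex_mul_relIndex A B' (S ⊔ B') hB'.le le_sup_right, Subgroup.relIndex_sup_right,
      ← Subgroup.inf_relIndex_right B' S, show B' ⊓ S = A from le_antisymm
        (fun x hx => hSD0.le ⟨hx.2, hB'D hx.1⟩) (le_inf hB'.le hS.le), he, he']
    ring
  · haveI : Finite (Module.End (ZMod p) V) := Finite.of_injective _ DFunLike.coe_injective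
    refine le_trans (Nat.mul_le_mul_left 2 (Nat.pow_le_pow_left hN 3)) ?_
    refine phi_mul ?_ (by omega) (by omega) hb hb'
    exact Nat.card_pos

end

end Cfsg.Agent.OddBase
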