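import Cfsg.Agent.Lib.OddBase.Small
import Cfsg.Agent.Lib.OddBase.Arith
import Mathlib.LinearAlgebra.Dual.Lemmas
import Mathlib.FieldTheory.Fixed

/-!
The part of class two of a quasi-primitive linear group of odd order.
-/

set_option autoImplicit false
set_option linter.style.haveILetI false
set_option linter.unusedSectionVars false
set_option maxHeartbeats 1000000
set_option synthInstance.maxHeartbeats 200000

open scoped commutatorElement

namespace Cfsg.Agent.OddBase

open PrimSol

universe u v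

section

variable {p : ℕ} [Fact p.Prime] {V : Type v} [AddCommGroup V] [Module (ZMod p) V] [Finite V] [Nontrivial V]
variable {G : Type u} [Group G] [Finite G]

/-- A primitive group with a largest abelian normal subgroup. -/
structure Frame (ρ : G →* Module.End (ZMod p) V) (A : Subgroup G) : Prop where
  inj : Function.Injective ρ
  irr : Irred ρ
  prim : NoDecomp ρ
  normal : A.Normal
  comm : ∀ a ∈ A, ∀ b ∈ A, a * b = b * a
  max : ∀ B : Subgroup G, B.Normal → A ≤ B → (∀ a ∈ B, ∀ b ∈ B, a * b = b * a) → B ≤ A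

theorem exists_frame (ρ : G →* Module.End (ZMod p) V) (hρ : Function.Injective ρ) (hirr : Irred ρ)
    (hprim : NoDecomp ρ) : ∃ A, Frame ρ A := by
  classical
  haveI := Fintype.ofFinite (Subgroup G)
  obtain ⟨A, hA, hmax⟩ := Finset.exists_max_image
    (Finset.univ.filter fun A : Subgroup G => A.Normal ∧ ∀ a ∈ A, ∀ b ∈ A, a * b = b * a)
    (fun A => Nat.card A)
    ⟨⊥, Finset.mem_filter.2 ⟨Finset.mem_univ _, inferInstance, fun a ha b hb => by
      rw [Subgroup.mem_bot.1 ha, Subgroup.mem_bot.1 hb]⟩⟩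
  obtain ⟨hn, hc⟩ := (Finset.mem_filter.1 hA).2
  exact ⟨A, hρ, hirr, hprim, hn, hc, fun B h1 h2 h3 =>
    (Subgroup.eq_of_le_of_card_ge h2 (hmax B (Finset.mem_filter.2 ⟨Finset.mem_univ _, h1, h3⟩))).ge⟩

variable {ρ : G →* Module.End (ZMod p) V} {A : Subgroup G}

theorem Frame.mulComm (h : Frame ρ A) : IsMulCommutative A :=
  ⟨⟨fun a b => Subtype.ext (h.comm a a.2 b b.2)⟩⟩

theorem Frame.le_cent (h : Frame ρ A) : A ≤ Subgroup.centralizer (A : Set G) :=
  fun a ha => Subgroup.mem_centralizer_iff.2 fun b hb => h.comm b hb a ha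

theorem Frame.fpf (h : Frame ρ A) {a : G} (ha : a ∈ A) (ha1 : a ≠ 1) : fix ρ a = ⊥ :=
  haveI := h.normal
  fix_abelian ρ h.irr h.prim h.mulComm h.inj ha ha1

theorem Frame.alg_unit (h : Frame ρ A) {x : Module.End (ZMod p) V} (hx : x ∈ alg ρ A) (hx0 : x ≠ 0) :
    ∃ y ∈ alg ρ A, x * y = 1 := by
  haveI := h.normal
  haveI : Finite (Module.End (ZMod p) V) := Finite.of_injective _ DFunLike.coe_injective
  obtain ⟨i, j, hij, he⟩ : ∃ i j, i < j ∧ x ^ i = x ^ j := by
    obtain ⟨i, j, hne, he⟩ := Finite.exists_ne_map_eq_of_infinite fun k : ℕ => x ^ k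
    rcases lt_or_gt_of_ne hne with h' | h'
    · exact ⟨i, j, h', he⟩
    · exact ⟨j, i, h', he.symm⟩
  have hper : ∀ l c, i ≤ c → x ^ (c + l * (j - i)) = x ^ c := by
    intro l
    induction l with
    | zero => intro c _; simp
    | succ l ih =>
      intro c hc
      rw [show c + (l + 1) * (j - i) = (c - i) + j + l * (j - i) by rw [Nat.succ_mul]; omega,
        ih _ (by omega), pow_add, ← he, ← pow_add, Nat.sub_add_cancel hc]
  have hm : i ≤ (i + 1) * (j - i) := le_trans (by omega) (Nat.le_mul_of_pos_right (i + 1) (by omega))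
  have hm0 : (i + 1) * (j - i) ≠ 0 := Nat.mul_ne_zero i.succ_ne_zero (by omega)
  have hid : x ^ ((i + 1) * (j - i)) * x ^ ((i + 1) * (j - i)) = x ^ ((i + 1) * (j - i)) := by
    rw [← pow_add, hper _ _ hm]
  rcases alg_idem ρ h.irr h.prim h.mulComm (pow_mem hx _) hid with h' | h'
  · exact absurd (alg_reduced ρ h.irr h.mulComm hx h') hx0
  · exact ⟨x ^ ((i + 1) * (j - i) - 1), pow_mem hx _, by
      rw [← pow_succ', Nat.sub_add_cancel (Nat.pos_of_ne_zero hm0), h']⟩

theorem Frame.isField (h : Frame ρ A) : IsField ↥(alg ρ A) :=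
  haveI := h.normal
  { exists_pair_ne := ⟨0, 1, fun e => zero_ne_one (congrArg Subtype.val e)⟩
    mul_comm := fun x y => Subtype.ext (alg_comm ρ h.mulComm x.2 y.2)
    mul_inv_cancel := fun {x} hx => by
      obtain ⟨y, hy, hxy⟩ := h.alg_unit x.2 fun e => hx (Subtype.ext e)
      exact ⟨⟨y, hy⟩, Subtype.ext hxy⟩ }

theorem mem_alg {a : G} (ha : a ∈ A) : ρ a ∈ alg ρ A := Algebra.subset_adjoin ⟨a, ha, rfl⟩

theorem commute_alg {c : G} (hc : c ∈ Subgroup.centralizer (A : Set G)) {x : Module.End (ZMod p) V}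
    (hx : x ∈ alg ρ A) : ρ c * x = x * ρ c := by
  induction hx using Algebra.adjoin_induction with
  | mem x hx =>
    obtain ⟨a, ha, rfl⟩ := hx
    rw [← map_mul, ← map_mul, Subgroup.mem_centralizer_iff.1 hc a ha]
  | algebraMap r => exact (Algebra.commute_algebraMap_right r _).eq
  | add x y _ _ hx hy => rw [mul_add, add_mul, hx, hy]
  | mul x y _ _ hx hy => rw [← mul_assoc, hx, mul_assoc, hy, mul_assoc]

/-- Characters of a finite monoid are at most as many as its elements. -/
theorem card_hom_le (M L : Type*) [Monoid M] [Finite M] [Field L] :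
    Nat.card (M →* L) ≤ Nat.card M := by
  classical
  haveI := Fintype.ofFinite M
  have hli := linearIndependent_monoidHom M L
  haveI := hli.finite
  haveI := Fintype.ofFinite (M →* L)
  have := hli.fintype_card_le_finrank
  rw [Module.finrank_fintype_fun_eq_card] at this
  rwa [Nat.card_eq_fintype_card, Nat.card_eq_fintype_card]

theorem comm_mul_right {x y y' : G} (h : y * ⁅x, y'⁆ = ⁅x, y'⁆ * y) : ⁅x, y * y'⁆ = ⁅x, y⁆ * ⁅x, y'⁆ := by
  calc ⁅x, y * y'⁆ = ⁅x, y⁆ * (y * ⁅x, y'⁆ * y⁻¹) := by simp only [commutatorElement_def]; group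
    _ = _ := by rw [h, mul_inv_cancel_right]

theorem comm_mul_left (g k b : G) : ⁅g * k, b⁆ = g * ⁅k, b⁆ * g⁻¹ * ⁅g, b⁆ := by
  simp only [commutatorElement_def]; group

theorem comm_inv_left (g b : G) : ⁅g⁻¹, b⁆ = g⁻¹ * ⁅g, b⁆⁻¹ * g⁻¹⁻¹ := by
  simp only [commutatorElement_def]; group

/-- Commutator characters separate the cosets of the centraliser. -/
theorem Frame.relIndex_le (h : Frame ρ A) {X Y Y₀ : Subgroup G} [hn : (Y₀.subgroupOf Y).Normal]
    (hY : Y ≤ Subgroup.centralizer (A : Set G))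
    (hXY : ∀ x ∈ X, ∀ y ∈ Y, ⁅x, y⁆ ∈ A) (h0 : X ≤ Subgroup.centralizer (Y₀ : Set G)) :
    (Subgroup.centralizer (Y : Set G)).relIndex X ≤ Y₀.relIndex Y := by
  classical
  letI : Field ↥(alg ρ A) := h.isField.toField
  let chi : ∀ x : X, (↥Y ⧸ Y₀.subgroupOf Y) →* ↥(alg ρ A) := fun x =>
    QuotientGroup.lift (Y₀.subgroupOf Y)
      { toFun := fun y => ⟨ρ ⁅(x : G), (y : G)⁆, mem_alg (hXY x x.2 y y.2)⟩
        map_one' := Subtype.ext (by simp)
        map_mul' := fun y y' => Subtype.ext (by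
          show ρ ⁅(x : G), (y : G) * y'⁆ = ρ _ * ρ _
          rw [comm_mul_right, map_mul]
          exact (Subgroup.mem_centralizer_iff.1 (hY y.2) _ (hXY x x.2 y' y'.2)).symm) }
      (fun y hy => Subtype.ext (by
        show ρ ⁅(x : G), (y : G)⁆ = 1
        rw [commutatorElement_eq_one_iff_mul_comm.2
          (Subgroup.mem_centralizer_iff.1 (h0 x.2) (y : G) hy).symm, map_one]))
  have hinj : ∀ x x' : X, chi x = chi x' → (x : G)⁻¹ * x' ∈ Subgroup.centralizer (Y : Set G) := by
    intro x x' he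
    refine Subgroup.mem_centralizer_iff.2 fun y hy => ?_
    have h1 := congrArg Subtype.val (DFunLike.congr_fun he (QuotientGroup.mk ⟨y, hy⟩))
    have h2 : ⁅(x : G), y⁆ = ⁅(x' : G), y⁆ := h.inj h1
    rw [commutatorElement_def, commutatorElement_def, mul_left_inj] at h2
    calc y * ((x : G)⁻¹ * x') = (x : G)⁻¹ * ((x : G) * y * (x : G)⁻¹) * x' := by group
      _ = (x : G)⁻¹ * x' * y := by rw [h2]; group
  unfold Subgroup.relIndex
  haveI : Finite ↥(alg ρ A) := by
    haveI : Finite (Module.End (ZMod p) V) := Finite.of_injective _ DFunLike.coe_injective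
    infer_instance
  haveI : Finite ((↥Y ⧸ Y₀.subgroupOf Y) →* ↥(alg ρ A)) := Finite.of_injective _ DFunLike.coe_injective
  refine le_trans ?_ (card_hom_le (↥Y ⧸ Y₀.subgroupOf Y) ↥(alg ρ A))
  refine Nat.card_le_card_of_injective (fun c => chi c.out) fun c c' he => ?_
  rw [← c.out_eq', ← c'.out_eq', QuotientGroup.eq]
  exact hinj _ _ he

/-- A normal subgroup of class two with small centre. -/
structure Lay (ρ : G →* Module.End (ZMod p) V) (A B : Subgroup G) : Prop where
  normal : B.Normal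
  le : A ≤ B
  leC : B ≤ Subgroup.centralizer (A : Set G)
  comm : ∀ x ∈ B, ∀ y ∈ B, ⁅x, y⁆ ∈ A
  cent : B ⊓ Subgroup.centralizer (B : Set G) ≤ A

theorem Lay.inf_cent (h : Frame ρ A) {B : Subgroup G} (hB : Lay ρ A B) :
    B ⊓ Subgroup.centralizer (B : Set G) = A :=
  le_antisymm hB.cent fun a ha => ⟨hB.le ha,
    Subgroup.mem_centralizer_iff.2 fun b hb => (Subgroup.mem_centralizer_iff.1 (hB.leC hb) a ha).symm⟩

/-- What acts trivially on the layer modulo the abelian subgroup comes from the layer. -/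
theorem Frame.inner (h : Frame ρ A) {B : Subgroup G} (hB : Lay ρ A B) {g : G}
    (hg : g ∈ Subgroup.centralizer (A : Set G)) (hgB : ∀ b ∈ B, ⁅g, b⁆ ∈ A) :
    g ∈ B ⊔ Subgroup.centralizer (A : Set G) ⊓ Subgroup.centralizer (B : Set G) := by
  haveI := h.normal
  haveI := hB.normal
  let X : Subgroup G :=
    { carrier := {k | k ∈ Subgroup.centralizer (A : Set G) ∧ ∀ b ∈ B, ⁅k, b⁆ ∈ A}
      one_mem' := ⟨one_mem _, fun b _ => by rw [commutatorElement_one_left]; exact one_mem A⟩
      mul_mem' := fun {k l} hk hl => ⟨mul_mem hk.1 hl.1, fun b hb => by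
        rw [comm_mul_left]
        exact mul_mem (h.normal.conj_mem _ (hl.2 b hb) k) (hk.2 b hb)⟩
      inv_mem' := fun {k} hk => ⟨inv_mem hk.1, fun b hb => by
        rw [comm_inv_left]
        exact h.normal.conj_mem _ (inv_mem (hk.2 b hb)) k⁻¹⟩ }
  set Z := Subgroup.centralizer (A : Set G) ⊓ Subgroup.centralizer (B : Set G) with hZ
  haveI : Z.Normal := inferInstance
  have hBX : B ≤ X := fun b hb => ⟨hB.leC hb, hB.comm b hb⟩
  have hZX : Z ≤ X := fun z hz => ⟨hz.1, fun b hb => by
    rw [commutatorElement_eq_one_iff_mul_comm.2 (Subgroup.mem_centralizer_iff.1 hz.2 b hb).symm]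
    exact one_mem A⟩
  have hW : B ⊔ Z ≤ X := sup_le hBX hZX
  have h1 : Z.relIndex X ≤ A.relIndex B := by
    have hz : Z.relIndex X = (Subgroup.centralizer (B : Set G)).relIndex X := by
      rw [← Subgroup.inf_relIndex_right Z X, ← Subgroup.inf_relIndex_right (Subgroup.centralizer (B : Set G)) X]
      congr 1
      exact le_antisymm (fun x hx => ⟨hx.1.2, hx.2⟩) fun x hx => ⟨⟨hx.2.1, hx.1⟩, hx.2⟩
    rw [hz]
    exact h.relIndex_le (X := X) (Y := B) (Y₀ := A) hB.leC (fun x hx y hy => hx.2 y hy) fun x hx => hx.1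
  have h2 : Z.relIndex (B ⊔ Z) = A.relIndex B := by
    rw [Subgroup.relIndex_sup_right, ← Subgroup.inf_relIndex_right Z B]
    congr 1
    refine le_antisymm (fun x hx => hB.cent ⟨hx.2, hx.1.2⟩) fun a ha => ?_
    have h3 := (hB.inf_cent h).ge ha
    exact ⟨⟨h.le_cent ha, h3.2⟩, h3.1⟩
  have h3 := Subgroup.relIndex_mul_relIndex Z (B ⊔ Z) X le_sup_right hW
  have hpos : 0 < A.relIndex B := Nat.pos_of_ne_zero Subgroup.index_ne_zero_of_finite
  have h4 : (B ⊔ Z).relIndex X = 1 := by
    rw [h2] at h3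
    have h5 : A.relIndex B * (B ⊔ Z).relIndex X ≤ A.relIndex B * 1 := by rw [h3, mul_one]; exact h1
    have := Nat.le_of_mul_le_mul_left h5 hpos
    have h6 : (B ⊔ Z).relIndex X ≠ 0 := Subgroup.index_ne_zero_of_finite
    omega
  exact Subgroup.relIndex_eq_one.1 h4 ⟨hg, hgB⟩

/-- Coset representatives of a layer are linearly independent over the field. -/
theorem Frame.relIndex_le_sq (h : Frame ρ A) {B : Subgroup G} (hB : Lay ρ A B) :
    ∃ m : ℕ, 0 < m ∧ Nat.card V = Nat.card ↥(alg ρ A) ^ m ∧ A.relIndex B ≤ m ^ 2 := by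
  classical
  letI : Field ↥(alg ρ A) := h.isField.toField
  haveI := h.normal
  haveI : Module.Finite ↥(alg ρ A) V := Module.Finite.of_finite
  refine ⟨Module.finrank ↥(alg ρ A) V, Module.finrank_pos, Module.natCard_eq_pow_finrank, ?_⟩
  haveI := Fintype.ofFinite (↥B ⧸ A.subgroupOf B)
  let chi : B → ((↥B ⧸ A.subgroupOf B) →* ↥(alg ρ A)) := fun x =>
    QuotientGroup.lift (A.subgroupOf B)
      { toFun := fun y => ⟨ρ ⁅(x : G), (y : G)⁆, mem_alg (hB.comm x x.2 y y.2)⟩
        map_one' := Subtype.ext (by simp)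
        map_mul' := fun y y' => Subtype.ext (by
          show ρ ⁅(x : G), (y : G) * y'⁆ = ρ _ * ρ _
          rw [comm_mul_right, map_mul]
          exact (Subgroup.mem_centralizer_iff.1 (hB.leC y.2) _ (hB.comm x x.2 y' y'.2)).symm) }
      (fun y hy => Subtype.ext (by
        show ρ ⁅(x : G), (y : G)⁆ = 1
        rw [commutatorElement_eq_one_iff_mul_comm.2
          (Subgroup.mem_centralizer_iff.1 (hB.leC x.2) (y : G) hy).symm, map_one]))
  have hchi : Function.Injective fun i : ↥B ⧸ A.subgroupOf B => chi i.out := by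
    intro i j hij
    rw [← i.out_eq', ← j.out_eq', QuotientGroup.eq, Subgroup.mem_subgroupOf]
    refine hB.cent ⟨(i.out⁻¹ * j.out : B).2, Subgroup.mem_centralizer_iff.2 fun y hy => ?_⟩
    have h1 := congrArg Subtype.val (DFunLike.congr_fun hij (QuotientGroup.mk ⟨y, hy⟩))
    have h2 : ⁅((i.out : B) : G), y⁆ = ⁅((j.out : B) : G), y⁆ := h.inj h1
    rw [commutatorElement_def, commutatorElement_def, mul_left_inj] at h2
    push_cast
    calc y * (((i.out : B) : G)⁻¹ * (j.out : B)) =
          ((i.out : B) : G)⁻¹ * (((i.out : B) : G) * y * ((i.out : B) : G)⁻¹) * (j.out : B) := by group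
      _ = ((i.out : B) : G)⁻¹ * (j.out : B) * y := by rw [h2]; group
  let f : (↥B ⧸ A.subgroupOf B) → (V →ₗ[↥(alg ρ A)] V) := fun i =>
    { toFun := fun w => ρ ((i.out : B) : G) w
      map_add' := fun a b => map_add _ a b
      map_smul' := fun k w => by
        show (ρ ((i.out : B) : G) * (k : Module.End (ZMod p) V)) w = _
        rw [commute_alg (hB.leC (i.out : B).2) k.2]
        rfl }
  have hli : LinearIndependent ↥(alg ρ A) f := by
    refine Fintype.linearIndependent_iff.2 fun k hk i => ?_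
    obtain ⟨w, hw⟩ := exists_ne (0 : V)
    have hd := (linearIndependent_monoidHom (↥B ⧸ A.subgroupOf B) ↥(alg ρ A)).comp _ hchi
    have hterm : k i • f i w = 0 := by
      refine (Module.forall_dual_apply_eq_zero_iff ↥(alg ρ A) _).1 fun φ => ?_
      refine Fintype.linearIndependent_iff.1 hd (fun j => φ (k j • f j w)) (funext fun c => ?_) i
      obtain ⟨b, rfl⟩ := QuotientGroup.mk_surjective c
      have h1 : (∑ j, k j • f j) (ρ (b : G) w) = 0 := by rw [hk]; rfl
      have h2 : ∀ j, k j • f j (ρ (b : G) w) = ρ (b : G) (chi j.out (QuotientGroup.mk b) • (k j • f j w)) := by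
        intro j
        show ((k j : Module.End (ZMod p) V) * (ρ ((j.out : B) : G) * ρ (b : G))) w =
          (ρ (b : G) * (ρ ⁅((j.out : B) : G), (b : G)⁆ * ((k j : Module.End (ZMod p) V) * ρ ((j.out : B) : G)))) w
        congr 1
        have hc := hB.comm _ (j.out : B).2 _ b.2
        have e1 : ((j.out : B) : G) * b = b * ⁅((j.out : B) : G), (b : G)⁆ * (j.out : B) := by
          rw [Subgroup.mem_centralizer_iff.1 (hB.leC b.2) _ hc |>.symm, commutatorElement_def]
          group
        rw [← map_mul, e1, map_mul, map_mul]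
        have hkb : (k j : Module.End (ZMod p) V) * ρ (b : G) = ρ (b : G) * (k j : Module.End (ZMod p) V) :=
          (commute_alg (hB.leC b.2) (k j).2).symm
        have hkc : (k j : Module.End (ZMod p) V) * ρ ⁅((j.out : B) : G), (b : G)⁆ =
            ρ ⁅((j.out : B) : G), (b : G)⁆ * (k j : Module.End (ZMod p) V) :=
          alg_comm ρ h.mulComm (k j).2 (mem_alg hc)
        calc (k j : Module.End (ZMod p) V) * (ρ (b : G) * ρ ⁅((j.out : B) : G), (b : G)⁆ * ρ ((j.out : B) : G))
            = ((k j : Module.End (ZMod p) V) * ρ (b : G)) * (ρ ⁅((j.out : B) : G), (b : G)⁆ * ρ ((j.out : B) : G)) := by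
              simp only [mul_assoc]
          _ = ρ (b : G) * (((k j : Module.End (ZMod p) V) * ρ ⁅((j.out : B) : G), (b : G)⁆) * ρ ((j.out : B) : G)) := by
              rw [hkb]; simp only [mul_assoc]
          _ = _ := by rw [hkc]; simp only [mul_assoc]
      rw [LinearMap.sum_apply] at h1
      simp only [LinearMap.smul_apply] at h1
      rw [Finset.sum_congr rfl fun j _ => h2 j, ← map_sum] at h1
      have h3 : ∑ j, chi j.out (QuotientGroup.mk b) • (k j • f j w) = 0 :=
        PrimSol.apply_injective ρ (b : G) (h1.trans (map_zero _).symm)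
      have h4 := congrArg φ h3
      rw [map_sum, map_zero] at h4
      simp only [Pi.zero_apply, Finset.sum_apply, Pi.smul_apply, Function.comp_apply, smul_eq_mul]
      refine Eq.trans (Finset.sum_congr rfl fun j _ => ?_) h4
      rw [map_smul φ (chi j.out (QuotientGroup.mk b)), smul_eq_mul, mul_comm]
    rcases smul_eq_zero.1 hterm with h1 | h1
    · exact h1
    · exact absurd (PrimSol.apply_injective ρ _ (h1.trans (map_zero (ρ ((i.out : B) : G))).symm)) hw
  have hfin := hli.fintype_card_le_finrank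
  rw [Module.finrank_linearMap] at hfin
  unfold Subgroup.relIndex
  rw [Subgroup.index, Nat.card_eq_fintype_card, pow_two]
  exact hfin

theorem Frame.card_alg (h : Frame ρ A) :
    ∃ c : ℕ, 0 < c ∧ Nat.card ↥(alg ρ A) = p ^ c ∧ (Subgroup.centralizer (A : Set G)).index ≤ c := by
  classical
  letI : Field ↥(alg ρ A) := h.isField.toField
  haveI := h.normal
  haveI : Finite (Module.End (ZMod p) V) := Finite.of_injective _ DFunLike.coe_injective
  haveI : FiniteDimensional (ZMod p) ↥(alg ρ A) := Module.Finite.of_finite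
  refine ⟨Module.finrank (ZMod p) ↥(alg ρ A), Module.finrank_pos, ?_, ?_⟩
  · rw [Module.natCard_eq_pow_finrank (K := ZMod p), Nat.card_zmod]
  let f : G →* (↥(alg ρ A) ≃ₐ[ZMod p] ↥(alg ρ A)) :=
    { toFun := fun g =>
        { toFun := fun x => ⟨ρ g * (x : Module.End (ZMod p) V) * ρ g⁻¹, alg_conj ρ g x.2⟩
          invFun := fun x => ⟨ρ g⁻¹ * (x : Module.End (ZMod p) V) * ρ g, by
            simpa using alg_conj ρ g⁻¹ x.2⟩
          left_inv := fun x => Subtype.ext (LinearMap.ext fun w => by simp [inv_apply_cancel])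
          right_inv := fun x => Subtype.ext (LinearMap.ext fun w => by simp [apply_inv_cancel])
          map_mul' := fun x y => Subtype.ext (LinearMap.ext fun w => by simp [inv_apply_cancel])
          map_add' := fun x y => Subtype.ext (by simp [mul_add, add_mul])
          commutes' := fun r => Subtype.ext (LinearMap.ext fun w => by simp [Module.algebraMap_end_apply, apply_inv_cancel]) }
      map_one' := AlgEquiv.ext fun x => Subtype.ext (by simp)
      map_mul' := fun g k => AlgEquiv.ext fun x => Subtype.ext (LinearMap.ext fun w => by simp) }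
  have hker : f.ker ≤ Subgroup.centralizer (A : Set G) := by
    intro g hg
    refine Subgroup.mem_centralizer_iff.2 fun a ha => ?_
    have h1 : ρ g * ρ a * ρ g⁻¹ = ρ a :=
      congrArg (fun e : ↥(alg ρ A) ≃ₐ[ZMod p] ↥(alg ρ A) => ((e ⟨ρ a, mem_alg ha⟩ : ↥(alg ρ A)) : Module.End (ZMod p) V))
        (MonoidHom.mem_ker.1 hg)
    rw [← map_mul, ← map_mul] at h1
    have h2 := h.inj h1
    calc a * g = g * a * g⁻¹ * g := by rw [h2]
      _ = g * a := by group
  calc (Subgroup.centralizer (A : Set G)).index ≤ f.ker.index :=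
        Nat.le_of_dvd (Nat.pos_of_ne_zero Subgroup.index_ne_zero_of_finite) (Subgroup.index_dvd_of_le hker)
    _ = Nat.card f.range := Subgroup.index_ker f
    _ ≤ Nat.card (↥(alg ρ A) ≃ₐ[ZMod p] ↥(alg ρ A)) :=
        Nat.card_le_card_of_injective _ Subtype.val_injective
    _ ≤ _ := by rw [Nat.card_eq_fintype_card]; exact AlgEquiv.card_le

theorem Frame.card_dvd (h : Frame ρ A) : Nat.card A ∣ Nat.card ↥(alg ρ A) - 1 := by
  classical
  letI : Field ↥(alg ρ A) := h.isField.toField
  let f : A →* (↥(alg ρ A))ˣ := MonoidHom.toHomUnits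
    { toFun := fun a => (⟨ρ a, mem_alg a.2⟩ : ↥(alg ρ A))
      map_one' := Subtype.ext (map_one ρ)
      map_mul' := fun a b => Subtype.ext (map_mul ρ (a : G) b) }
  have hf : Function.Injective f := fun a b hab =>
    Subtype.ext (h.inj (congrArg (fun u : (↥(alg ρ A))ˣ => ((u : ↥(alg ρ A)) : Module.End (ZMod p) V)) hab))
  have h1 := Subgroup.card_dvd_of_injective f hf
  rwa [Nat.card_units] at h1

end

end Cfsg.Agent.OddBase
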