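import Cfsg.Agent.Lib.OddBase.Chief

/-!
Quasi-primitive linear groups of odd order have two regular orbits on pairs.
-/

set_option autoImplicit false
set_option linter.style.haveILetI false
set_option linter.unusedSectionVars false
set_option maxHeartbeats 1000000

open scoped commutatorElement

namespace Cfsg.Agent.OddBase

open PrimSol

universe u v

section

variable {p : ℕ} [Fact p.Prime] {V : Type v} [AddCommGroup V] [Module (ZMod p) V] [Finite V]
variable {G : Type u} [Group G] [Finite G]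

/-- Two inequivalent pairs of vectors with trivial stabilisers. -/
def TwoPairs (ρ : G →* Module.End (ZMod p) V) : Prop :=
  ∃ a b c d : V, (∀ g, ρ g a = a → ρ g b = b → ρ g = 1) ∧ (∀ g, ρ g c = c → ρ g d = d → ρ g = 1) ∧
    ∀ g, ¬ (ρ g a = c ∧ ρ g b = d)

variable [Nontrivial V] {ρ : G →* Module.End (ZMod p) V} {A : Subgroup G}

theorem Frame.eq_zero (h : Frame ρ A) {z z' : G} (hz : z ∈ A) (hz' : z' ∈ A) (hne : z ≠ z') {x : V}
    (hx : ρ z x = ρ z' x) : x = 0 := by
  have h1 : x ∈ fix ρ (z⁻¹ * z') := by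
    rw [mem_fix, map_mul, Module.End.mul_apply, ← hx, inv_apply_cancel]
  rw [h.fpf (mul_mem (inv_mem hz) hz') fun e => hne (inv_mul_eq_one.1 e), Submodule.mem_bot] at h1
  exact h1

theorem Frame.triple (h : Frame ρ A) {z z₁ z₂ : G} (hz : z ∈ A) (hz₁ : z₁ ∈ A) (hz₂ : z₂ ∈ A)
    (h01 : z ≠ z₁) (h02 : z ≠ z₂) (h12 : z₁ ≠ z₂) {u v w : V}
    (e₀ : u + ρ z v + ρ (z * z) w = 0) (e₁ : u + ρ z₁ v + ρ (z₁ * z₁) w = 0)
    (e₂ : u + ρ z₂ v + ρ (z₂ * z₂) w = 0) : u = 0 ∧ v = 0 ∧ w = 0 := by
  have key : ∀ {a b : G}, a ∈ A → b ∈ A → a ≠ b → u + ρ a v + ρ (a * a) w = 0 →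
      u + ρ b v + ρ (b * b) w = 0 → v + ρ a w + ρ b w = 0 := by
    intro a b ha hb hab ea eb
    refine h.eq_zero ha hb hab ?_
    simp only [map_add, ← Module.End.mul_apply, ← map_mul]
    rw [show ρ (b * a) w = ρ (a * b) w by rw [h.comm b hb a ha]]
    have e := ea.trans eb.symm
    rw [add_assoc, add_assoc, add_left_cancel_iff] at e
    rw [e]
    abel
  have f1 := key hz hz₁ h01 e₀ e₁
  have f2 := key hz hz₂ h02 e₀ e₂
  have hw : w = 0 := h.eq_zero hz₁ hz₂ h12 (add_left_cancel (f1.trans f2.symm))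
  subst hw
  have hv : v = 0 := by simpa using f1
  subst hv
  exact ⟨by simpa using e₀, rfl, rfl⟩

theorem three_finrank_le (W : Submodule (ZMod p) V) (f₁ f₂ : Module.End (ZMod p) V)
    (hinj : ∀ u ∈ W, ∀ v ∈ W, ∀ w ∈ W, u + f₁ v + f₂ w = 0 → u = 0 ∧ v = 0 ∧ w = 0) :
    3 * Module.finrank (ZMod p) W ≤ Module.finrank (ZMod p) V := by
  let L : (W × W × W) →ₗ[ZMod p] V := W.subtype.coprod ((f₁ ∘ₗ W.subtype).coprod (f₂ ∘ₗ W.subtype))
  have hL : Function.Injective L := LinearMap.ker_eq_bot.1 (LinearMap.ker_eq_bot'.2 fun ⟨u, v, w⟩ hx => by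
    have hx' : (u : V) + f₁ v + f₂ w = 0 := by
      simpa [L, add_assoc] using hx
    obtain ⟨a, b, c⟩ := hinj u u.2 v v.2 w w.2 hx'
    exact Prod.ext (Subtype.ext a) (Prod.ext (Subtype.ext b) (Subtype.ext c)))
  have := LinearMap.finrank_le_finrank_of_injective hL
  rw [Module.finrank_prod, Module.finrank_prod] at this
  omega

theorem commute_of_commute_sq (hodd : Odd (Nat.card G)) {g z : G} (h : g * g * z = z * (g * g)) :
    g * z = z * g := by
  obtain ⟨i, hi⟩ := hodd
  have h1 : (g * g) ^ (i + 1) = g := by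
    rw [← pow_two, ← pow_mul, show 2 * (i + 1) = (2 * i + 1) + 1 by ring, ← hi, pow_succ, pow_card_eq_one',
      one_mul]
  have h2 : Commute (g * g) z := h
  have h3 := h2.pow_left (i + 1)
  rwa [h1] at h3

theorem Frame.fix_outside (h : Frame ρ A) (hodd : Odd (Nat.card G)) {g : G}
    (hg : g ∉ Subgroup.centralizer (A : Set G)) :
    3 * Module.finrank (ZMod p) (fix ρ g) ≤ Module.finrank (ZMod p) V := by
  rw [Subgroup.mem_centralizer_iff] at hg
  push Not at hg
  obtain ⟨z, hz, hne⟩ := hg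
  set z₁ := g * z * g⁻¹ with hz1
  set z₂ := g * z₁ * g⁻¹ with hz2
  have hz₁ : z₁ ∈ A := h.normal.conj_mem z hz g
  have hz₂ : z₂ ∈ A := h.normal.conj_mem z₁ hz₁ g
  have h01 : z ≠ z₁ := fun e => hne (by
    conv_lhs => rw [e, hz1]
    group)
  have h02 : z ≠ z₂ := fun e => hne (commute_of_commute_sq hodd (z := z) (g := g) (by
    conv_rhs => rw [e, hz2, hz1]
    group)).symm
  have h12 : z₁ ≠ z₂ := fun e => h01 (by
    have : g * z * g⁻¹ = g * z₁ * g⁻¹ := e
    exact mul_left_cancel (mul_right_cancel this))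
  refine three_finrank_le (fix ρ g) (ρ z) (ρ (z * z)) fun u hu v hv w hw e₀ => ?_
  have step : ∀ a : G, u + ρ a v + ρ (a * a) w = 0 →
      u + ρ (g * a * g⁻¹) v + ρ (g * a * g⁻¹ * (g * a * g⁻¹)) w = 0 := by
    intro a ea
    have := congrArg (ρ g) ea
    rw [map_add, map_add, map_zero, (mem_fix ρ).1 hu] at this
    have hv' : ρ g⁻¹ v = v := (mem_fix ρ).1 ((fix_inv ρ g).symm ▸ hv)
    have hw' : ρ g⁻¹ w = w := (mem_fix ρ).1 ((fix_inv ρ g).symm ▸ hw)
    rw [show g * a * g⁻¹ * (g * a * g⁻¹) = g * (a * a) * g⁻¹ by group]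
    simp only [map_mul, Module.End.mul_apply, hv', hw'] at this ⊢
    exact this
  exact h.triple hz hz₁ hz₂ h01 h02 h12 e₀ (step z e₀) (step z₁ (step z e₀))

theorem Frame.fix_layer (h : Frame ρ A) (hodd : Odd (Nat.card G)) {B : Subgroup G} (hB : Lay ρ A B) {y : G}
    (hy : y ∈ B) (hyA : y ∉ A) :
    3 * Module.finrank (ZMod p) (fix ρ y) ≤ Module.finrank (ZMod p) V := by
  obtain ⟨b, hb, hne⟩ : ∃ b ∈ B, ⁅y, b⁆ ≠ 1 := by
    by_contra hcon
    push Not at hcon
    exact hyA (hB.cent ⟨hy, Subgroup.mem_centralizer_iff.2 fun b hb =>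
      (commutatorElement_eq_one_iff_mul_comm.1 (hcon b hb)).symm⟩)
  set l := ⁅y, b⁆ with hl
  have hlA : l ∈ A := hB.comm y hy b hb
  have hl2 : l * l ≠ 1 := fun e => hne (by
    obtain ⟨i, hi⟩ := hodd
    have h1 := pow_card_eq_one' (x := l)
    rw [hi, pow_succ, pow_mul, pow_two, e, one_pow, one_mul] at h1
    exact h1)
  have hlb : Commute l b := Subgroup.mem_centralizer_iff.1 (hB.leC hb) l hlA
  have hly : Commute l y := Subgroup.mem_centralizer_iff.1 (hB.leC hy) l hlA
  have hyb : y * b = l * b * y := by rw [hl, commutatorElement_def]; group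
  refine three_finrank_le (fix ρ y) (ρ b) (ρ (b * b)) fun u hu v hv w hw e₀ => ?_
  have step : ∀ a : G, a ∈ A → u + ρ a (ρ b v) + ρ (a * a) (ρ (b * b) w) = 0 →
      u + ρ (a * l) (ρ b v) + ρ (a * l * (a * l)) (ρ (b * b) w) = 0 := by
    intro a ha ea
    have := congrArg (ρ y) ea
    rw [map_add, map_add, map_zero, (mem_fix ρ).1 hu] at this
    have hay : Commute a y := Subgroup.mem_centralizer_iff.1 (hB.leC hy) a ha
    have hal : Commute a l := h.comm a ha l hlA
    have e1 : y * (a * b) = a * l * b * y := by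
      rw [← mul_assoc, ← hay.eq, mul_assoc, hyb]; group
    have e2 : y * (a * a * (b * b)) = a * l * (a * l) * (b * b) * y := by
      calc y * (a * a * (b * b)) = a * a * (y * b * b) := by
            rw [← mul_assoc, ← (hay.mul_left hay).eq]; group
        _ = a * a * (l * b * y * b) := by rw [hyb]
        _ = a * a * (l * b * (l * b * y)) := by rw [mul_assoc (l * b) y b, hyb]
        _ = a * a * (l * (b * l) * b * y) := by group
        _ = a * a * (l * (l * b) * b * y) := by rw [← hlb.eq]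
        _ = a * (a * l) * l * b * b * y := by group
        _ = a * (l * a) * l * b * b * y := by rw [hal.eq]
        _ = _ := by group
    simp only [← Module.End.mul_apply, ← map_mul] at this ⊢
    rw [e1, e2] at this
    simp only [map_mul, Module.End.mul_apply, (mem_fix ρ).1 hv, (mem_fix ρ).1 hw] at this ⊢
    exact this
  have e0' : u + ρ 1 (ρ b v) + ρ (1 * 1) (ρ (b * b) w) = 0 := by
    simp only [mul_one, map_one, Module.End.one_apply]; exact e₀
  have s1 := step 1 (one_mem A) e0'
  rw [one_mul] at s1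
  have s2 := step l hlA s1
  obtain ⟨a, b', c⟩ := h.triple (one_mem A) hlA (mul_mem hlA hlA) (Ne.symm hne) (Ne.symm hl2)
    (fun e => hne (left_eq_mul.1 e)) e0' s1 s2
  exact ⟨a, apply_injective ρ b (b'.trans (map_zero _).symm),
    apply_injective ρ (b * b) (c.trans (map_zero _).symm)⟩

theorem Frame.fix_coset (h : Frame ρ A) {g k : G} (hk : g⁻¹ * k ∈ A) (hne : g ≠ k) :
    Module.finrank (ZMod p) (fix ρ g) + Module.finrank (ZMod p) (fix ρ k) ≤ Module.finrank (ZMod p) V := by
  have := finrank_fix_mul ρ g⁻¹ k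
  rw [fix_inv, h.fpf hk fun e => hne (inv_mul_eq_one.1 e), finrank_bot] at this
  omega

theorem Frame.fix_cent (h : Frame ρ A) (hodd : Odd (Nat.card G)) {B : Subgroup G} (hB : Lay ρ A B)
    (hBC : Subgroup.centralizer (A : Set G) ⊓ Subgroup.centralizer (B : Set G) ≤ A) {g : G}
    (hg : g ∈ Subgroup.centralizer (A : Set G)) (hgA : g ∉ A) :
    3 * Module.finrank (ZMod p) (fix ρ g) ≤ 2 * Module.finrank (ZMod p) V := by
  by_cases hgB : g ∈ B
  · have := h.fix_layer hodd hB hgB hgA
    omega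
  obtain ⟨b, hb, hne⟩ : ∃ b ∈ B, ⁅g, b⁆ ∉ A := by
    by_contra hcon
    push Not at hcon
    exact hgB (sup_le le_rfl (hBC.trans hB.le) (h.inner hB hg hcon))
  have hyB : ⁅g, b⁆ ∈ B := by
    rw [commutatorElement_def]
    exact mul_mem (hB.normal.conj_mem b hb g) (inv_mem hb)
  have h1 := h.fix_layer hodd hB hyB hne
  have h2 := finrank_fix_commutator ρ g b
  omega

/-- The main count: two regular orbits on pairs and a bound for the order. -/
theorem primitive_pairs (hρ : Function.Injective ρ) (hirr : Irred ρ) (hprim : NoDecomp ρ)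
    (hodd : Odd (Nat.card G)) (hsol : Group.IsSolvable G) (hW : OrderBound.{u} (Nat.card V)) :
    2 * Nat.card G ≤ (Nat.card V) ^ 2 ∧ TwoPairs ρ := by
  classical
  obtain ⟨A, h⟩ := exists_frame ρ hρ hirr hprim
  haveI := h.normal
  haveI : Fintype V := Fintype.ofFinite V
  haveI : Fintype G := Fintype.ofFinite G
  haveI : Finite (Module.End (ZMod p) V) := Finite.of_injective _ DFunLike.coe_injective
  set C := Subgroup.centralizer (A : Set G) with hC
  set d := Module.finrank (ZMod p) V with hd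
  have hp : 1 < p := (Fact.out : p.Prime).one_lt
  have hT : Nat.card V = p ^ d := by rw [Module.natCard_eq_pow_finrank (K := ZMod p), Nat.card_zmod]
  obtain ⟨c, hc0, hP, hidx⟩ := h.card_alg
  obtain ⟨m0, hm0, hTm0⟩ : ∃ m, 0 < m ∧ Nat.card V = Nat.card ↥(alg ρ A) ^ m := by
    letI : Field ↥(alg ρ A) := h.isField.toField
    haveI : Module.Finite ↥(alg ρ A) V := Module.Finite.of_finite
    exact ⟨_, Module.finrank_pos, Module.natCard_eq_pow_finrank⟩
  set P := Nat.card ↥(alg ρ A) with hPdef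
  have h2c : 2 ^ c ≤ P := hP ▸ Nat.pow_le_pow_left hp c
  have hP2 : 2 ≤ P := le_trans (by
    calc 2 = 2 ^ 1 := rfl
      _ ≤ 2 ^ c := Nat.pow_le_pow_right (by norm_num) hc0) h2c
  have hAP : Nat.card A ≤ P - 1 := Nat.le_of_dvd (by omega) h.card_dvd
  have hcardC : A.relIndex C * Nat.card A = Nat.card C := by
    have h1 := Subgroup.index_mul_card (A.subgroupOf C)
    rwa [Nat.card_congr (Subgroup.subgroupOfEquivOfLe h.le_cent).toEquiv] at h1
  have hn : Nat.card G = C.index * Nat.card C := (Subgroup.index_mul_card C).symm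
  have hPT : P ≤ Nat.card V := hTm0 ▸ Nat.le_self_pow hm0.ne' P
  -- the nonregular pairs
  let fx : G → Finset (V × V) := fun g => Finset.univ.filter fun x => ρ g x.1 = x.1 ∧ ρ g x.2 = x.2
  let U : Finset (V × V) := Finset.univ.filter fun x => ∃ g : G, g ≠ 1 ∧ ρ g x.1 = x.1 ∧ ρ g x.2 = x.2
  let w : G → ℕ := fun g => (p ^ Module.finrank (ZMod p) (fix ρ g)) ^ 2 - 1
  have hfx : ∀ g, (fx g).card = (p ^ Module.finrank (ZMod p) (fix ρ g)) ^ 2 := by
    intro g
    rw [← card_fix ρ g, pow_two, ← Nat.card_prod, ← Nat.card_eq_finsetCard]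
    exact Nat.card_congr
      { toFun := fun x => (⟨x.1.1, (mem_fix ρ).2 (Finset.mem_filter.1 x.2).2.1⟩,
          ⟨x.1.2, (mem_fix ρ).2 (Finset.mem_filter.1 x.2).2.2⟩)
        invFun := fun x => ⟨(x.1, x.2), Finset.mem_filter.2
          ⟨Finset.mem_univ _, (mem_fix ρ).1 x.1.2, (mem_fix ρ).1 x.2.2⟩⟩
        left_inv := fun x => rfl
        right_inv := fun x => rfl }
  have hU : 2 * U.card ≤ 2 + ∑ g ∈ Finset.univ.erase (1 : G), w g := by
    have h0 : ∀ g, (0, 0) ∈ fx g := fun g => Finset.mem_filter.2 ⟨Finset.mem_univ _, map_zero _, map_zero _⟩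
    have hw : ∀ g, ((fx g).erase (0, 0)).card = w g := fun g => by
      rw [Finset.card_erase_of_mem (h0 g), hfx]
    have hsub : ∀ g, g ≠ 1 → (fx g).erase (0, 0) = (U.erase (0, 0)).filter (fun x => x ∈ fx g) := by
      intro g hg
      ext x
      simp only [Finset.mem_erase, Finset.mem_filter, fx, U, Finset.mem_univ, true_and]
      exact ⟨fun ⟨a, b⟩ => ⟨⟨a, g, hg, b⟩, b⟩, fun ⟨⟨a, _⟩, b⟩ => ⟨a, b⟩⟩
    have htwo : ∀ x ∈ U.erase (0, 0), 2 ≤ ((Finset.univ.erase (1 : G)).filter (fun g => x ∈ fx g)).card := by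
      intro x hx
      obtain ⟨g, hg, hg1, hg2⟩ := (Finset.mem_filter.1 (Finset.mem_of_mem_erase hx)).2
      refine Finset.one_lt_card.2 ⟨g, ?_, g⁻¹, ?_, ?_⟩
      · simp [fx, hg, hg1, hg2]
      · have e1 : ρ g⁻¹ x.1 = x.1 := by conv_lhs => rw [← hg1]; rw [inv_apply_cancel]
        have e2 : ρ g⁻¹ x.2 = x.2 := by conv_lhs => rw [← hg2]; rw [inv_apply_cancel]
        simp [fx, hg, e1, e2]
      · intro e
        refine hg ?_
        obtain ⟨i, hi⟩ := hodd
        have h1 := pow_card_eq_one' (x := g)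
        have h2 : g ^ 2 = 1 := by rw [pow_two]; nth_rewrite 2 [e]; rw [mul_inv_cancel]
        rwa [hi, pow_succ, pow_mul, h2, one_pow, one_mul] at h1
    have key : 2 * (U.erase (0, 0)).card ≤ ∑ g ∈ Finset.univ.erase (1 : G), w g := by
      calc 2 * (U.erase (0, 0)).card = ∑ _x ∈ U.erase (0, 0), 2 := by
            rw [Finset.sum_const, smul_eq_mul, mul_comm]
        _ ≤ ∑ x ∈ U.erase (0, 0), ((Finset.univ.erase (1 : G)).filter (fun g => x ∈ fx g)).card :=
            Finset.sum_le_sum htwo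
        _ = ∑ x ∈ U.erase (0, 0), ∑ g ∈ Finset.univ.erase (1 : G), if x ∈ fx g then 1 else 0 :=
            Finset.sum_congr rfl fun x _ => Finset.card_filter _ _
        _ = ∑ g ∈ Finset.univ.erase (1 : G), ∑ x ∈ U.erase (0, 0), if x ∈ fx g then 1 else 0 := Finset.sum_comm
        _ = ∑ g ∈ Finset.univ.erase (1 : G), w g := by
            refine Finset.sum_congr rfl fun g hg => ?_
            rw [← Finset.card_filter, ← hsub g (Finset.ne_of_mem_erase hg), hw]
    have := Finset.pred_card_le_card_erase (s := U) (a := ((0 : V), (0 : V)))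
    omega
  set X := (p ^ (d / 3)) ^ 2 with hX
  have hX3 : X ^ 3 ≤ Nat.card V ^ 2 := by
    rw [hT, hX, ← pow_mul, ← pow_mul, ← pow_mul]
    exact Nat.pow_le_pow_right (by omega) (by omega)
  have hout : ∀ g, g ∉ C → w g ≤ X - 1 := fun g hg => by
    have := h.fix_outside hodd hg
    exact Nat.sub_le_sub_right (Nat.pow_le_pow_left (Nat.pow_le_pow_right (by omega) (by omega)) 2) 1
  have hinA : ∀ g ∈ A, g ≠ 1 → w g = 0 := fun g hg hg1 => by
    simp only [w]
    rw [h.fpf hg hg1, finrank_bot, pow_zero, one_pow]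
    rfl
  have hmain : 2 * Nat.card G ≤ Nat.card V ^ 2 ∧ U.card + Nat.card G < Nat.card V ^ 2 := by
    by_cases hCA : C ≤ A
    · have hle : Nat.card C ≤ P - 1 := (Subgroup.card_le_of_le hCA).trans hAP
      have hnc : Nat.card G ≤ c * (P - 1) := hn ▸ Nat.mul_le_mul hidx hle
      have hsum : ∑ g ∈ Finset.univ.erase (1 : G), w g ≤ Nat.card G * (X - 1) := by
        refine le_trans (Finset.sum_le_card_nsmul _ _ (X - 1) fun g hg => ?_) ?_
        · by_cases hgC : g ∈ C
          · rw [hinA g (hCA hgC) (Finset.ne_of_mem_erase hg)]; exact Nat.zero_le _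
          · exact hout g hgC
        · rw [smul_eq_mul]
          refine Nat.mul_le_mul_right _ ?_
          rw [Nat.card_eq_fintype_card]
          exact Finset.card_le_univ _
      refine ⟨?_, count_base hnc h2c hPT hP2 hX3 (hU.trans (by omega))⟩
      have h3 : 2 * c ≤ P := le_trans (by
        obtain ⟨i, rfl⟩ : ∃ i, c = i + 1 := ⟨c - 1, by omega⟩
        have := Nat.lt_two_pow_self (n := i)
        rw [pow_succ]; omega) h2c
      calc 2 * Nat.card G ≤ 2 * c * (P - 1) := by rw [mul_assoc]; exact Nat.mul_le_mul_left 2 hnc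
        _ ≤ P * P := Nat.mul_le_mul h3 (Nat.sub_le P 1)
        _ ≤ Nat.card V ^ 2 := by rw [pow_two]; exact Nat.mul_le_mul hPT hPT
    · obtain ⟨B, e, hB, -, hBc, he, hAB, hN⟩ := h.exists_layers hodd hsol hW C inferInstance h.le_cent hCA le_rfl
      obtain ⟨m, -, hTm, hm⟩ := h.relIndex_le_sq hB
      have hem : e ≤ m := (Nat.pow_le_pow_iff_left two_ne_zero).1 (hAB ▸ hm)
      have hP5 : P ^ 5 ≤ Nat.card V := hTm ▸ Nat.pow_le_pow_right (by omega) (he.trans hem)
      set N := A.relIndex C with hNdef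
      have hN' : 2 * N ^ 3 ≤ Nat.card V ^ 2 := by
        refine hN.trans ?_
        rw [hTm, ← pow_mul]
        exact Nat.pow_le_pow_right (by omega) (by omega)
      have h3 : 2 * c ≤ P := le_trans (by
        obtain ⟨i, rfl⟩ : ∃ i, c = i + 1 := ⟨c - 1, by omega⟩
        have := Nat.lt_two_pow_self (n := i)
        rw [pow_succ]; omega) h2c
      have hn2 : 2 * Nat.card G ≤ P * P * N := by
        rw [hn, ← hcardC]
        calc 2 * (C.index * (N * Nat.card A)) = 2 * C.index * Nat.card A * N := by ring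
          _ ≤ P * P * N := Nat.mul_le_mul_right _ (Nat.mul_le_mul ((Nat.mul_le_mul_left 2 hidx).trans h3)
              (hAP.trans (Nat.sub_le P 1)))
      have hP4 : 4 ≤ P := by
        by_contra hlt
        have hP3 : P = 2 ∨ P = 3 := by omega
        have hA2 : Nat.card A ≤ 2 := by omega
        have hA1 : Nat.card A = 1 := by
          have hodA : Odd (Nat.card A) := Odd.of_dvd_nat hodd (Subgroup.card_subgroup_dvd_card A)
          obtain ⟨i, hi⟩ := hodA
          omega
        refine hCA fun g hg => ?_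
        by_contra hgA
        obtain ⟨b, hb, hne⟩ : ∃ b ∈ B, ¬ b ∈ A := by
          by_contra hcon
          push Not at hcon
          have : A.relIndex B = 1 := Subgroup.relIndex_eq_one.2 hcon
          rw [hAB] at this
          have : e = 1 := (Nat.pow_eq_one.1 this).resolve_right two_ne_zero
          omega
        refine hne (hB.cent ⟨hb, Subgroup.mem_centralizer_iff.2 fun b' hb' => ?_⟩)
        have h1 := hB.comm b hb b' hb'
        rw [Subgroup.card_eq_one.1 hA1, Subgroup.mem_bot, commutatorElement_eq_one_iff_mul_comm] at h1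
        exact h1.symm
      set T := Nat.card V with hTdef
      set Q := (p ^ (2 * d / 3)) ^ 2 with hQ
      have hQ3 : Q ^ 3 ≤ T ^ 4 := by
        rw [hT, hQ, ← pow_mul, ← pow_mul, ← pow_mul]
        exact Nat.pow_le_pow_right (by omega) (by omega)
      let S := (Finset.univ.filter fun g : G => g ∈ C ∧ g ∉ A)
      have hcoset : ∀ x : G ⧸ A, ∑ g ∈ S.filter (fun g => (QuotientGroup.mk g : G ⧸ A) = x), w g ≤ Nat.card A * T + Q := by
        intro x
        set F := S.filter (fun g => (QuotientGroup.mk g : G ⧸ A) = x) with hF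
        have hFA : F.card ≤ Nat.card A := by
          rcases F.eq_empty_or_nonempty with h0 | ⟨g₀, hg₀⟩
          · simp [h0]
          rw [← Nat.card_eq_finsetCard]
          refine Nat.card_le_card_of_injective (fun g : F => (⟨g₀⁻¹ * g.1, QuotientGroup.eq.1
            ((Finset.mem_filter.1 hg₀).2.trans (Finset.mem_filter.1 g.2).2.symm)⟩ : A)) fun a b hab => ?_
          exact Subtype.ext (mul_left_cancel (congrArg Subtype.val hab))
        have hsmall : ∀ g, 2 * Module.finrank (ZMod p) (fix ρ g) ≤ d → w g ≤ T := fun g hg => by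
          refine (Nat.sub_le _ _).trans ?_
          rw [hT, ← pow_mul]
          exact Nat.pow_le_pow_right (by omega) (by omega)
        by_cases hbig : ∃ g ∈ F, d < 2 * Module.finrank (ZMod p) (fix ρ g)
        · obtain ⟨g₁, hg₁, hg₁'⟩ := hbig
          rw [← Finset.add_sum_erase F w hg₁, add_comm]
          refine Nat.add_le_add ?_ ?_
          · refine le_trans (Finset.sum_le_card_nsmul _ _ T fun g hg => hsmall g ?_) ?_
            · obtain ⟨hne, hgF⟩ := Finset.mem_erase.1 hg
              have := h.fix_coset (QuotientGroup.eq.1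
                ((Finset.mem_filter.1 hg₁).2.trans (Finset.mem_filter.1 hgF).2.symm)) (Ne.symm hne)
              omega
            · rw [smul_eq_mul]
              exact Nat.mul_le_mul_right _ ((Finset.card_erase_le).trans hFA)
          · obtain ⟨-, hgC, hgA⟩ := Finset.mem_filter.1 (Finset.mem_filter.1 hg₁).1
            have := h.fix_cent hodd hB hBc hgC hgA
            refine (Nat.sub_le _ _).trans (Nat.pow_le_pow_left (Nat.pow_le_pow_right (by omega) (by omega)) 2)
        · push Not at hbig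
          refine le_trans (Finset.sum_le_card_nsmul _ _ T fun g hg => hsmall g (hbig g hg)) ?_
          rw [smul_eq_mul]
          exact (Nat.mul_le_mul_right _ hFA).trans (Nat.le_add_right _ _)
      haveI : Fintype (G ⧸ A) := Fintype.ofFinite _
      have hI : (S.image (fun g => (QuotientGroup.mk g : G ⧸ A))).card ≤ N := by
        have hsub : S.image (fun g => (QuotientGroup.mk g : G ⧸ A)) ⊆
            (Set.range fun q : ↥C ⧸ A.subgroupOf C => (QuotientGroup.mk ((q.out : C) : G) : G ⧸ A)).toFinset := by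
          intro x hx
          obtain ⟨g, hg, rfl⟩ := Finset.mem_image.1 hx
          refine Set.mem_toFinset.2 ⟨QuotientGroup.mk ⟨g, (Finset.mem_filter.1 hg).2.1⟩, QuotientGroup.eq.2 ?_⟩
          have := QuotientGroup.eq.1 ((QuotientGroup.mk (⟨g, (Finset.mem_filter.1 hg).2.1⟩ : C) :
            ↥C ⧸ A.subgroupOf C)).out_eq'
          exact this
        refine (Finset.card_le_card hsub).trans ?_
        rw [Set.toFinset_card, ← Nat.card_eq_fintype_card]
        exact Finite.card_range_le _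
      have hsum : ∑ g ∈ Finset.univ.erase (1 : G), w g ≤ N * (Nat.card A * T + Q) + Nat.card G * X := by
        have e1 : ∑ g ∈ Finset.univ.erase (1 : G), w g ≤
            ∑ g ∈ Finset.univ, ((if g ∈ C ∧ g ∉ A then w g else 0) + X) := by
          refine le_trans (Finset.sum_le_sum (g := fun g => (if g ∈ C ∧ g ∉ A then w g else 0) + X) fun g hg => ?_)
            (Finset.sum_le_sum_of_subset (Finset.erase_subset _ _))
          by_cases hgC : g ∈ C
          · by_cases hgA : g ∈ A
            · rw [hinA g hgA (Finset.ne_of_mem_erase hg)]; exact Nat.zero_le _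
            · simp [hgC, hgA]
          · have := hout g hgC
            simp [hgC]; omega
        refine e1.trans ?_
        rw [Finset.sum_add_distrib, ← Finset.sum_filter, Finset.sum_const, smul_eq_mul, Finset.card_univ,
          ← Nat.card_eq_fintype_card]
        refine Nat.add_le_add_right ?_ _
        show ∑ g ∈ S, w g ≤ _
        rw [← Finset.sum_fiberwise_of_maps_to (g := fun g => (QuotientGroup.mk g : G ⧸ A))
          (fun g hg => Finset.mem_image_of_mem _ hg) w]
        refine (Finset.sum_le_card_nsmul _ _ _ fun x _ => hcoset x).trans ?_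
        rw [smul_eq_mul]
        exact Nat.mul_le_mul_right _ hI
      refine ⟨?_, count_big hP4 (hAP.trans (Nat.sub_le P 1)) hP5 hN' hn2 hQ3 hX3 (hU.trans (by omega))⟩
      refine hn2.trans ((Nat.pow_le_pow_iff_left three_ne_zero).1 ?_)
      calc (P * P * N) ^ 3 = P ^ 6 * N ^ 3 := by ring
        _ ≤ (T ^ 2) ^ 2 * (T ^ 2) := by
            refine Nat.mul_le_mul ?_ (by omega)
            calc P ^ 6 ≤ (P ^ 5) ^ 4 := by rw [← pow_mul]; exact Nat.pow_le_pow_right (by omega) (by omega)
              _ ≤ T ^ 4 := Nat.pow_le_pow_left hP5 4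
              _ = (T ^ 2) ^ 2 := by ring
        _ = (T ^ 2) ^ 3 := by ring
  refine ⟨hmain.1, ?_⟩
  have hreg : ∀ x : V × V, x ∉ U → ∀ g, ρ g x.1 = x.1 → ρ g x.2 = x.2 → ρ g = 1 := fun x hx g a b => by
    by_contra hne
    exact hx (Finset.mem_filter.2 ⟨Finset.mem_univ _, g, fun e => hne (by rw [e, map_one]), a, b⟩)
  have hVV : Nat.card V ^ 2 = Fintype.card (V × V) := by
    rw [Fintype.card_prod, Nat.card_eq_fintype_card, pow_two]
  obtain ⟨x, -, hx⟩ := Finset.exists_mem_notMem_of_card_lt_card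
    (s := U) (t := (Finset.univ : Finset (V × V))) (by rw [Finset.card_univ, ← hVV]; omega)
  let O : Finset (V × V) := Finset.univ.image fun g : G => (ρ g x.1, ρ g x.2)
  obtain ⟨y, -, hy⟩ := Finset.exists_mem_notMem_of_card_lt_card
    (s := U ∪ O) (t := (Finset.univ : Finset (V × V))) (by
      rw [Finset.card_univ, ← hVV]
      refine lt_of_le_of_lt ((Finset.card_union_le _ _).trans (Nat.add_le_add_left ?_ _)) hmain.2
      rw [Nat.card_eq_fintype_card]
      exact Finset.card_image_le)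
  rw [Finset.mem_union, not_or] at hy
  exact ⟨x.1, x.2, y.1, y.2, hreg x hx, hreg y hy.1, fun g ⟨a, b⟩ =>
    hy.2 (Finset.mem_image.2 ⟨g, Finset.mem_univ _, Prod.ext a b⟩)⟩

end

end Cfsg.Agent.OddBase
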