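import Cfsg.Agent.Lib.PrimSol.Fixed
import Mathlib.GroupTheory.PGroup
import Mathlib.LinearAlgebra.Matrix.GeneralLinearGroup.Card

/-!
Small irreducible linear groups of odd order.
-/

set_option autoImplicit false
set_option linter.style.haveILetI false
set_option linter.unusedSectionVars false

namespace Cfsg.Agent.OddBase

open PrimSol

universe u

/-- Irreducible groups of odd order below a given space size are small. -/
def OrderBound (n : ℕ) : Prop :=
  ∀ (q : ℕ) [Fact q.Prime] (k : ℕ) (G : Type u) [Group G] [Finite G]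
    (ρ : G →* Module.End (ZMod q) (Fin k → ZMod q)),
    Odd (Nat.card G) → Function.Injective ρ → Irred ρ → 0 < k → q ^ k < n →
      2 * Nat.card G ≤ (q ^ k) ^ 2

section

variable {q : ℕ} [Fact q.Prime] {V : Type*} [AddCommGroup V] [Module (ZMod q) V] [Finite V]
variable {G : Type u} [Group G] [Finite G] (ρ : G →* Module.End (ZMod q) V)

/-- A representation written in coordinates. -/
theorem exists_coord (hρ : Function.Injective ρ) (hirr : Irred ρ) :
    ∃ (k : ℕ) (σ : G →* Module.End (ZMod q) (Fin k → ZMod q)),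
      Function.Injective σ ∧ Irred σ ∧ Nat.card V = q ^ k ∧ k = Module.finrank (ZMod q) V := by
  let e := (Module.finBasis (ZMod q) V).equivFun
  let σ : G →* Module.End (ZMod q) (Fin (Module.finrank (ZMod q) V) → ZMod q) :=
    { toFun := fun g => e.toLinearMap ∘ₗ ρ g ∘ₗ e.symm.toLinearMap
      map_one' := by ext x; simp
      map_mul' := fun g h => LinearMap.ext fun x => by simp }
  refine ⟨_, σ, ?_, ?_, ?_, rfl⟩
  · intro g h hgh
    refine hρ (LinearMap.ext fun x => ?_)
    have := LinearMap.congr_fun hgh (e x)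
    simpa [σ] using this
  · intro W hW
    rcases hirr (W.comap e.toLinearMap) (fun g w hw => by
      have := hW g (e w) hw
      simpa [σ] using this) with h | h
    · left
      refine (Submodule.eq_bot_iff W).2 fun w hw => ?_
      have h2 : e.symm w ∈ W.comap e.toLinearMap := by simpa using hw
      rw [h, Submodule.mem_bot] at h2
      simpa using congrArg e h2
    · right
      refine Submodule.eq_top_iff'.2 fun w => ?_
      have h2 : e.symm w ∈ W.comap e.toLinearMap := h ▸ Submodule.mem_top
      simpa using h2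
  · rw [Nat.card_congr e.toEquiv, Nat.card_fun]
    simp

theorem OrderBound.apply {n : ℕ} (hW : OrderBound.{u} n) [Nontrivial V] (hodd : Odd (Nat.card G))
    (hρ : Function.Injective ρ) (hirr : Irred ρ) (hn : Nat.card V < n) :
    2 * Nat.card G ≤ (Nat.card V) ^ 2 := by
  obtain ⟨k, σ, h1, h2, h3, h4⟩ := exists_coord ρ hρ hirr
  rw [h3] at hn ⊢
  exact hW q k G σ hodd h1 h2 (h4 ▸ Module.finrank_pos) hn

/-- A faithful group in coordinates has order dividing that of the general linear group. -/
theorem card_dvd (hρ : Function.Injective ρ) {k : ℕ} (hk : Module.finrank (ZMod q) V = k) :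
    Nat.card G ∣ ∏ i : Fin k, (q ^ k - q ^ (i : ℕ)) := by
  have b := (Module.finBasisOfFinrankEq (ZMod q) V hk)
  let f : G →* GL (Fin k) (ZMod q) :=
    ((LinearMap.toMatrixAlgEquiv b).toMulEquiv.toMonoidHom.comp ρ).toHomUnits
  have hf : Function.Injective f := fun g h hgh => hρ ((LinearMap.toMatrixAlgEquiv b).injective
    (congrArg Units.val hgh))
  have h := Subgroup.card_dvd_of_injective f hf
  rwa [Matrix.card_GL_field, ZMod.card] at h

omit [Finite G] in
/-- An irreducible group has no nontrivial normal subgroup of the characteristic's order. -/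
theorem eq_bot_of_normal_pgroup [Nontrivial V] (hρ : Function.Injective ρ) (hirr : Irred ρ) {N : Subgroup G}
    [N.Normal] (hN : IsPGroup q N) : N = ⊥ := by
  letI : MulAction N V :=
    { smul := fun n v => ρ n v
      one_smul := fun v => by change ρ ((1 : N) : G) v = v; simp
      mul_smul := fun a b v => by change ρ ((a * b : N) : G) v = ρ a (ρ b v); simp }
  have hq : q ∣ Nat.card V := by
    rw [Module.natCard_eq_pow_finrank (K := ZMod q) (V := V), Nat.card_zmod]
    exact dvd_pow_self q Module.finrank_pos.ne'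
  obtain ⟨v, hv, hv0⟩ := hN.exists_fixed_point_of_prime_dvd_card_of_fixed_point V hq
    (a := (0 : V)) (fun n => map_zero (ρ n))
  let W : Submodule (ZMod q) V := ⨅ n : N, fix ρ (n : G)
  have hmem : ∀ w, w ∈ W ↔ ∀ n : N, ρ n w = w := fun w => by simp [W, Submodule.mem_iInf, mem_fix]
  have hW : ∀ g : G, ∀ w ∈ W, ρ g w ∈ W := fun g w hw => (hmem _).2 fun n => by
    have h1 := (hmem w).1 hw ⟨g⁻¹ * n * g⁻¹⁻¹, ‹N.Normal›.conj_mem n n.2 g⁻¹⟩
    have h2 := congrArg (ρ g) h1
    rw [← Module.End.mul_apply, ← map_mul] at h2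
    rw [← Module.End.mul_apply, ← map_mul]
    convert h2 using 3
    simp [mul_assoc]
  rcases hirr W hW with h | h
  · exact absurd ((Submodule.mem_bot _).1 (h ▸ (hmem v).2 hv)) (Ne.symm hv0)
  · exact eq_bot_iff.2 fun n hn => Subgroup.mem_bot.2 (hρ (by
      rw [map_one]
      exact LinearMap.ext fun w => (hmem w).1 (h ▸ Submodule.mem_top) ⟨n, hn⟩))

omit [Finite G] in
/-- The fixed space of an element of prime order has congruent size. -/
theorem card_fix_modEq {l : ℕ} [Fact l.Prime] {g : G} (hg : g ^ l = 1) :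
    Nat.card V ≡ Nat.card (fix ρ g) [MOD l] := by
  let Z := Subgroup.zpowers g
  have hZ : IsPGroup l Z := by
    intro x
    obtain ⟨m, hm⟩ := Subgroup.mem_zpowers_iff.1 x.2
    refine ⟨1, Subtype.ext ?_⟩
    rw [pow_one, SubgroupClass.coe_pow, ← hm, ← zpow_natCast, ← zpow_mul, mul_comm, zpow_mul, zpow_natCast,
      hg, one_zpow, OneMemClass.coe_one]
  letI : MulAction Z V :=
    { smul := fun n v => ρ n v
      one_smul := fun v => by change ρ ((1 : Z) : G) v = v; simp
      mul_smul := fun a b v => by change ρ ((a * b : Z) : G) v = ρ a (ρ b v); simp }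
  have h := hZ.card_modEq_card_fixedPoints (α := V)
  refine h.trans (congrArg (· % l) ?_)
  refine Nat.card_congr (Equiv.subtypeEquivRight fun v => ?_)
  constructor
  · intro hv
    exact (mem_fix ρ).2 (hv ⟨g, Subgroup.mem_zpowers g⟩)
  · intro hv n
    have key : ∀ m : ℕ, ρ (g ^ m) v = v := by
      intro m
      induction m with
      | zero => simp
      | succ m ih => rw [pow_succ, map_mul, Module.End.mul_apply, (mem_fix ρ).1 hv, ih]
    obtain ⟨n, hn⟩ := n
    have hfin : IsOfFinOrder g := isOfFinOrder_iff_pow_eq_one.2 ⟨l, (Fact.out : l.Prime).pos, hg⟩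
    obtain ⟨m, rfl⟩ := hfin.mem_powers_iff_mem_zpowers.2 hn
    exact key m

omit [Finite G] in
theorem card_fix (g : G) : Nat.card (fix ρ g) = q ^ Module.finrank (ZMod q) (fix ρ g) := by
  rw [Module.natCard_eq_pow_finrank (K := ZMod q), Nat.card_zmod]

end

/-- Odd divisors avoid a power of two factor. -/
theorem dvd_of_odd {n a b : ℕ} (hn : Odd n) (h : n ∣ 2 ^ a * b) : n ∣ b :=
  ((Nat.Coprime.pow_right a (Nat.coprime_two_right.2 hn))).dvd_of_dvd_mul_left h

theorem pow_five_three : ∀ x : ZMod 3, x ^ 5 = 1 → x = 1 := by decide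

section three

variable {V : Type*} [AddCommGroup V] [Module (ZMod 3) V] [Finite V] [Nontrivial V]
variable {G : Type u} [Group G] [Finite G] (ρ : G →* Module.End (ZMod 3) V)

theorem no_commuting_five_thirteen (hρ : Function.Injective ρ) (hk : Module.finrank (ZMod 3) V ≤ 4)
    {a b : G} (ha : orderOf a = 5) (hb : orderOf b = 13) (hab : a * b = b * a) : False := by
  haveI : Fact (Nat.Prime 5) := ⟨by norm_num⟩
  haveI : Fact (Nat.Prime 13) := ⟨by norm_num⟩
  haveI : Fact (Nat.Prime 3) := ⟨by norm_num⟩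
  have hfa : fix ρ a ≠ ⊤ := fun h => by
    have : a = 1 := hρ ((map_one ρ).symm ▸ LinearMap.ext fun v => (mem_fix ρ).1 (h ▸ Submodule.mem_top))
    rw [this, orderOf_one] at ha; omega
  have hfb : fix ρ b ≠ ⊤ := fun h => by
    have : b = 1 := hρ ((map_one ρ).symm ▸ LinearMap.ext fun v => (mem_fix ρ).1 (h ▸ Submodule.mem_top))
    rw [this, orderOf_one] at hb; omega
  have la := Submodule.finrank_lt hfa
  have lb := Submodule.finrank_lt hfb
  have ea := card_fix_modEq ρ (l := 5) (g := a) (ha ▸ pow_orderOf_eq_one a)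
  have eb := card_fix_modEq ρ (l := 13) (g := b) (hb ▸ pow_orderOf_eq_one b)
  rw [card_fix, Module.natCard_eq_pow_finrank (K := ZMod 3) (V := V), Nat.card_zmod] at ea eb
  generalize hfav : Module.finrank (ZMod 3) (fix ρ a) = f at la ea
  generalize hfbv : Module.finrank (ZMod 3) (fix ρ b) = g at lb eb
  generalize hkv : Module.finrank (ZMod 3) V = k at la lb ea eb hk
  have hfg : f = 0 ∧ g = 1 := by
    unfold Nat.ModEq at ea eb
    interval_cases k <;> interval_cases f <;> interval_cases g <;> simp_all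
  obtain ⟨w, hw, hw0⟩ := (Submodule.ne_bot_iff _).1 (fun h : fix ρ b = ⊥ => by
    rw [h, finrank_bot] at hfbv; omega)
  have hspan : ∀ x ∈ fix ρ b, ∃ c : ZMod 3, c • w = x := by
    intro x hx
    have h1 : Submodule.span (ZMod 3) {w} = fix ρ b :=
      Submodule.eq_of_le_of_finrank_eq ((Submodule.span_singleton_le_iff_mem _ _).2 hw)
        (by rw [finrank_span_singleton hw0, hfbv, hfg.2])
    exact Submodule.mem_span_singleton.1 (h1 ▸ hx)
  obtain ⟨c, hc⟩ := hspan (ρ a w) ((mem_fix ρ).2 (by
    rw [← Module.End.mul_apply, ← map_mul, ← hab, map_mul, Module.End.mul_apply, (mem_fix ρ).1 hw]))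
  have hp : ∀ i : ℕ, ρ (a ^ i) w = c ^ i • w := by
    intro i
    induction i with
    | zero => simp
    | succ i ih => rw [pow_succ, map_mul, Module.End.mul_apply, ← hc, map_smul, ih, smul_smul, pow_succ']
  have h5 := hp 5
  rw [(ha ▸ pow_orderOf_eq_one a : a ^ 5 = 1), map_one, Module.End.one_apply] at h5
  have h6 : (c ^ 5 - 1) • w = 0 := by rw [sub_smul, one_smul, ← h5, sub_self]
  have hc1 : c = 1 := by
    have h7 : c ^ 5 = 1 := sub_eq_zero.1 ((smul_eq_zero.1 h6).resolve_right hw0)
    exact pow_five_three c h7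
  have : w ∈ fix ρ a := (mem_fix ρ).2 (by rw [← hc, hc1, one_smul])
  have h8 : fix ρ a = ⊥ := Submodule.finrank_eq_zero.1 (hfav.trans hfg.1)
  exact hw0 ((Submodule.mem_bot _).1 (h8 ▸ this))

/-- An irreducible soluble group of odd order in dimension at most four over three elements. -/
theorem card_le_thirtynine (hρ : Function.Injective ρ) (hirr : Irred ρ)
    (hk : Module.finrank (ZMod 3) V ≤ 4) (hodd : Odd (Nat.card G)) (hsol : Group.IsSolvable G)
    (hd : Nat.card G ∣ 3 ^ 6 * 65) : Nat.card G ≤ 39 := by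
  classical
  haveI : Fact (Nat.Prime 3) := ⟨by norm_num⟩
  rcases subsingleton_or_nontrivial G with hG | hG
  · rw [Nat.card_unique]; norm_num
  -- an abelian normal subgroup
  obtain ⟨D, hDn, hD0, hDc⟩ : ∃ D : Subgroup G, D.Normal ∧ D ≠ ⊥ ∧ ∀ x ∈ D, ∀ y ∈ D, x * y = y * x := by
    have hex := hsol.solvable
    have h0 : Nat.find hex ≠ 0 := fun h => by
      have := Nat.find_spec hex
      rw [h, derivedSeries_zero] at this
      exact top_ne_bot this
    refine ⟨derivedSeries G (Nat.find hex - 1), derivedSeries_normal G _, Nat.find_min hex (by omega),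
      fun x hx y hy => ?_⟩
    have h1 := Nat.find_spec hex
    rw [show Nat.find hex = Nat.find hex - 1 + 1 by omega, derivedSeries_succ] at h1
    exact commutatorElement_eq_one_iff_mul_comm.1
      (Subgroup.mem_bot.1 (h1 ▸ Subgroup.commutator_mem_commutator hx hy))
  have hD1 : Nat.card D ≠ 1 := fun h => hD0 (Subgroup.card_eq_one.1 h)
  obtain ⟨l, hl, hlD⟩ := Nat.exists_prime_and_dvd hD1
  haveI := Fact.mk hl
  let N : Subgroup G :=
    { carrier := {x | x ∈ D ∧ x ^ l = 1}
      one_mem' := ⟨one_mem D, one_pow l⟩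
      mul_mem' := fun {x y} hx hy => ⟨mul_mem hx.1 hy.1, by
        rw [(show Commute x y from hDc x hx.1 y hy.1).mul_pow, hx.2, hy.2, one_mul]⟩
      inv_mem' := fun {x} hx => ⟨inv_mem hx.1, by rw [inv_pow, hx.2, inv_one]⟩ }
  haveI hNn : N.Normal := ⟨fun x hx g => ⟨hDn.conj_mem x hx.1 g, by rw [conj_pow, hx.2]; simp⟩⟩
  have hNl : IsPGroup l N := fun x => ⟨1, Subtype.ext (by simpa using x.2.2)⟩
  obtain ⟨x, hx⟩ := exists_prime_orderOf_dvd_card' (G := D) l hlD
  have hxN : (x : G) ∈ N := ⟨x.2, by rw [← hx, ← Subgroup.orderOf_coe]; exact pow_orderOf_eq_one _⟩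
  have hx1 : (x : G) ≠ 1 := fun h => hl.ne_one (by rw [← hx, ← Subgroup.orderOf_coe, h, orderOf_one])
  have hl3 : l ≠ 3 := by
    rintro rfl
    exact hx1 (Subgroup.mem_bot.1 (eq_bot_of_normal_pgroup ρ hρ hirr hNl ▸ hxN))
  have hl5 : l = 5 ∨ l = 13 := by
    have h1 : l ∣ 3 ^ 6 * 65 := hlD.trans ((Subgroup.card_subgroup_dvd_card D).trans hd)
    rcases (Nat.Prime.dvd_mul hl).1 h1 with h | h
    · exact absurd ((Nat.prime_dvd_prime_iff_eq hl Nat.prime_three).1 (hl.dvd_of_dvd_pow h)) hl3
    · have h2 : l ≤ 65 := Nat.le_of_dvd (by norm_num) h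
      interval_cases l <;> simp_all (config := { decide := true })
  obtain ⟨j, hj⟩ := IsPGroup.iff_card.1 hNl
  have hN1 : Nat.card N = l := by
    have h1 : l ^ j ∣ 3 ^ 6 * 65 := hj ▸ (Subgroup.card_subgroup_dvd_card N).trans hd
    have hj0 : j ≠ 0 := fun h => hx1 (Subgroup.mem_bot.1 ((Subgroup.card_eq_one.1 (by rw [hj, h, pow_zero])) ▸ hxN))
    rcases Nat.lt_or_ge j 2 with h | h
    · rw [hj, show j = 1 by omega, pow_one]
    · have h2 : l ^ 2 ∣ 3 ^ 6 * 65 := (pow_dvd_pow l h).trans h1
      rcases hl5 with rfl | rfl <;> norm_num at h2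
  haveI : IsCyclic N := isCyclic_of_prime_card hN1
  -- the centraliser
  set C := Subgroup.centralizer (N : Set G) with hC
  have hNC : N ≤ C := fun a ha => Subgroup.mem_centralizer_iff.2 fun b hb => hDc b hb.1 a ha.1
  have hCd : Nat.card C ∣ 3 ^ 6 * l := by
    have h1 : Nat.card C ∣ 3 ^ 6 * 65 := (Subgroup.card_subgroup_dvd_card C).trans hd
    have hno : ∀ l' : ℕ, l'.Prime → (l = 5 → l' = 13) → (l = 13 → l' = 5) → ¬ l' ∣ Nat.card C := by
      intro l' hl' h5 h13 hdiv
      haveI := Fact.mk hl'
      obtain ⟨b, hb⟩ := exists_prime_orderOf_dvd_card' (G := C) l' hdiv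
      rw [← Subgroup.orderOf_coe] at hb
      have ho : orderOf (x : G) = l := by rw [Subgroup.orderOf_coe, hx]
      have hcom : (x : G) * b = b * x := Subgroup.mem_centralizer_iff.1 b.2 x hxN
      rcases hl5 with rfl | rfl
      · exact no_commuting_five_thirteen ρ hρ hk ho (h5 rfl ▸ hb) hcom
      · exact no_commuting_five_thirteen ρ hρ hk (h13 rfl ▸ hb) ho hcom.symm
    rcases hl5 with rfl | rfl
    · have h13 := hno 13 (by norm_num) (fun _ => rfl) (fun h => by omega)
      refine ((Nat.Prime.coprime_iff_not_dvd (by norm_num)).2 h13).symm.dvd_of_dvd_mul_left (?_ : Nat.card C ∣ 13 * (3 ^ 6 * 5))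
      norm_num at h1 ⊢; exact h1
    · have h5 := hno 5 (by norm_num) (fun h => by omega) (fun _ => rfl)
      refine ((Nat.Prime.coprime_iff_not_dvd (by norm_num)).2 h5).symm.dvd_of_dvd_mul_left (?_ : Nat.card C ∣ 5 * (3 ^ 6 * 13))
      norm_num at h1 ⊢; exact h1
  have hCle : Nat.card C ≤ l := by
    obtain ⟨P⟩ : Nonempty (Sylow 3 C) := inferInstance
    have hPn : (P : Subgroup C).Normal := by
      refine ⟨fun y hy c => ?_⟩
      -- every element is a product from the centre and the Sylow subgroup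
      let Z : Subgroup C := N.subgroupOf C
      have hZc : ∀ z ∈ Z, ∀ w : C, z * w = w * z := fun z hz w =>
        Subtype.ext (Subgroup.mem_centralizer_iff.1 w.2 z hz)
      haveI : Z.Normal := ⟨fun z hz w => by rwa [← hZc z hz w, mul_inv_cancel_right]⟩
      have hZcard : Nat.card Z = l := by
        rw [← hN1]; exact Nat.card_congr (Subgroup.subgroupOfEquivOfLe hNC).toEquiv
      have htop : Z ⊔ (P : Subgroup C) = ⊤ := by
        refine Subgroup.eq_top_of_card_eq _ (Nat.dvd_antisymm (Subgroup.card_subgroup_dvd_card _) ?_)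
        obtain ⟨i, hi⟩ := IsPGroup.iff_card.1 P.isPGroup'
        have hz : l ∣ Nat.card (Z ⊔ (P : Subgroup C) : Subgroup C) :=
          hZcard ▸ Subgroup.card_dvd_of_le le_sup_left
        have hp : Nat.card (P : Subgroup C) ∣ Nat.card (Z ⊔ (P : Subgroup C) : Subgroup C) :=
          Subgroup.card_dvd_of_le le_sup_right
        have hcop : Nat.Coprime (Nat.card (P : Subgroup C)) l := by
          rw [hi]; exact ((Nat.coprime_primes Nat.prime_three hl).2 (Ne.symm hl3)).pow_left i
        have hlp : Nat.card C ∣ l * Nat.card (P : Subgroup C) := by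
          have h3 : Nat.Coprime (P : Subgroup C).index 3 :=
            ((Nat.Prime.coprime_iff_not_dvd Nat.prime_three).2 P.not_dvd_index).symm
          have h4 : (P : Subgroup C).index ∣ 3 ^ 6 * l :=
            (Subgroup.index_dvd_card _).trans hCd
          have h5 : (P : Subgroup C).index ∣ l := (h3.pow_right 6).dvd_of_dvd_mul_left h4
          rw [← Subgroup.index_mul_card (P : Subgroup C)]
          exact Nat.mul_dvd_mul_right h5 _
        exact hlp.trans (hcop.symm.mul_dvd_of_dvd_of_dvd hz hp)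
      have hc : c ∈ Z ⊔ (P : Subgroup C) := htop ▸ Subgroup.mem_top c
      obtain ⟨z, hz, w, hw, rfl⟩ := Subgroup.mem_sup_of_normal_left.1 hc
      have : z * w * y * (z * w)⁻¹ = w * y * w⁻¹ := by
        calc z * w * y * (z * w)⁻¹ = z * (w * y * w⁻¹) * z⁻¹ := by group
          _ = _ := by rw [hZc z hz, mul_inv_cancel_right]
      rw [this]
      exact mul_mem (mul_mem hw hy) (inv_mem hw)
    haveI : (P : Subgroup C).Characteristic := P.characteristic_of_normal hPn
    haveI : C.Normal := inferInstance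
    haveI : ((P : Subgroup C).map C.subtype).Normal := ConjAct.normal_of_characteristic_of_normal
    have hb := eq_bot_of_normal_pgroup ρ hρ hirr (N := (P : Subgroup C).map C.subtype)
      (P.isPGroup'.map C.subtype)
    rw [Subgroup.map_eq_bot_iff_of_injective _ C.subtype_injective] at hb
    obtain ⟨i, hi⟩ := IsPGroup.iff_card.1 P.isPGroup'
    have hcard : ¬ 3 ∣ Nat.card C := fun h => by
      have := P.not_dvd_index
      rw [hb, Subgroup.index_bot] at this
      exact this h
    have : Nat.card C ∣ l :=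
      (((Nat.Prime.coprime_iff_not_dvd Nat.prime_three).2 hcard).symm.pow_right 6).dvd_of_dvd_mul_left hCd
    exact Nat.le_of_dvd hl.pos this
  let f : G →* MulAut N := MulAut.conjNormal
  have hker : f.ker ≤ C := fun g hg => Subgroup.mem_centralizer_iff.2 fun a ha => by
    have h1 := congrArg (fun e : MulAut N => ((e ⟨a, ha⟩ : N) : G)) (MonoidHom.mem_ker.1 hg)
    simp only [f, MulAut.conjNormal_apply, MulAut.one_apply] at h1
    calc a * g = g * a * g⁻¹ * g := by rw [h1]
      _ = g * a := by group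
  have hr : Nat.card f.range ∣ l - 1 := by
    have h := Subgroup.card_subgroup_dvd_card f.range
    rwa [IsCyclic.card_mulAut, hN1, Nat.totient_prime hl] at h
  have hr2 : Odd (Nat.card f.range) := Odd.of_dvd_nat hodd (Subgroup.card_range_dvd f)
  have hr3 : Nat.card f.range * l ≤ 39 := by
    rcases hl5 with rfl | rfl
    · have := dvd_of_odd hr2 (a := 2) (b := 1) (by simpa using hr)
      rw [Nat.dvd_one.1 this]; norm_num
    · have := Nat.le_of_dvd (by norm_num) (dvd_of_odd hr2 (a := 2) (b := 3) (by simpa using hr))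
      omega
  calc Nat.card G = Nat.card f.range * Nat.card f.ker := by
        rw [← Subgroup.index_ker, mul_comm, Subgroup.card_mul_index]
    _ ≤ Nat.card f.range * l := Nat.mul_le_mul_left _ ((Subgroup.card_le_of_le hker).trans hCle)
    _ ≤ 39 := hr3

end three

/-- The order of an irreducible group in the few small spaces. -/
theorem small_bound {q : ℕ} [Fact q.Prime] {V : Type*} [AddCommGroup V] [Module (ZMod q) V] [Finite V]
    [Nontrivial V] {G : Type u} [Group G] [Finite G] (ρ : G →* Module.End (ZMod q) V)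
    (hρ : Function.Injective ρ) (hirr : Irred ρ) (hodd : Odd (Nat.card G)) (hsol : Group.IsSolvable G) :
    (q = 3 → Module.finrank (ZMod q) V ≠ 2) ∧ (q = 5 → Module.finrank (ZMod q) V = 2 → Nat.card G ≤ 15) ∧
      (q = 7 → Module.finrank (ZMod q) V = 2 → Nat.card G ≤ 63) ∧
      (q = 3 → (Module.finrank (ZMod q) V = 3 ∨ Module.finrank (ZMod q) V = 4) → Nat.card G ≤ 39) := by
  refine ⟨?_, ?_, ?_, ?_⟩
  · rintro rfl hk
    have h := card_dvd ρ hρ hk
    have h1 : Nat.card G ∣ 3 := dvd_of_odd hodd (a := 4) (by simpa [Fin.prod_univ_succ] using h)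
    have hp : IsPGroup 3 (⊤ : Subgroup G) := fun x => ⟨1, by
      rw [pow_one]
      exact orderOf_dvd_iff_pow_eq_one.1 ((orderOf_dvd_natCard x).trans (by rwa [Subgroup.card_top]))⟩
    have htop := eq_bot_of_normal_pgroup ρ hρ hirr hp
    obtain ⟨v, hv⟩ := exists_ne (0 : V)
    rcases hirr (Submodule.span (ZMod 3) {v}) (fun g w hw => by
      have : g = 1 := Subgroup.mem_bot.1 (htop ▸ Subgroup.mem_top g)
      rw [this, map_one]; exact hw) with h2 | h2
    · exact hv (Submodule.span_singleton_eq_bot.1 h2)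
    · have h3 := finrank_span_singleton (K := ZMod 3) hv
      rw [h2, finrank_top, hk] at h3
      omega
  · rintro rfl hk
    have h := card_dvd ρ hρ hk
    exact Nat.le_of_dvd (by norm_num) (dvd_of_odd hodd (a := 5) (by simpa [Fin.prod_univ_succ] using h))
  · rintro rfl hk
    have h := card_dvd ρ hρ hk
    exact Nat.le_of_dvd (by norm_num) (dvd_of_odd hodd (a := 5) (by simpa [Fin.prod_univ_succ] using h))
  · rintro rfl (hk | hk)
    · refine card_le_thirtynine ρ hρ hirr (by omega) hodd hsol ?_
      have h := card_dvd ρ hρ hk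
      have h1 : Nat.card G ∣ 351 := dvd_of_odd hodd (a := 5) (by simpa [Fin.prod_univ_succ] using h)
      exact h1.trans (by norm_num)
    · refine card_le_thirtynine ρ hρ hirr (by omega) hodd hsol ?_
      have h := card_dvd ρ hρ hk
      exact dvd_of_odd hodd (a := 9) (by simpa [Fin.prod_univ_succ] using h)

end Cfsg.Agent.OddBase
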